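import Groth.Agent.MaxTorCent.Normalizer
import Groth.Agent.AGFLib.Borel

/-! Connected subgroups lie in the identity component; generalities on subgroups over an algebraically closed field. -/

set_option backward.isDefEq.respectTransparency false
set_option backward.isDefEq.respectTransparency.types false
set_option linter.style.haveILetI false
set_option autoImplicit false

universe u

open CategoryTheory Limits MonoidalCategory CartesianMonoidalCategory MonObj AlgebraicGeometry

namespace Groth.Agent.NonAffine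

open GrpSchLib AGFLib AGFLib.Gen AGFLib.BorelExist SolvGrp

variable {k : Type u} [Field k] [IsAlgClosed k]

local notation "PT" => 𝟙_ (Over (Spec (CommRingCat.of k)))

/-- A connected smooth group whose points lie in finitely many cosets of a closed subgroup maps into it. -/
theorem exists_factor_of_cosets {C U D : Over (Spec (CommRingCat.of k))} [GrpObj C] [GrpObj U] [GrpObj D]
    [LocallyOfFiniteType C.hom] [QuasiCompact C.hom] [Smooth U.hom] [QuasiCompact U.hom] [ConnectedSpace U.left]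
    (u : U ⟶ C) [IsMonHom u] (r : D ⟶ C) [IsMonHom r] [IsClosedImmersion r.left]
    (R : Set (PT ⟶ C)) (hR : R.Finite) (hcov : ∀ x : PT ⟶ U, ∃ s ∈ R, s⁻¹ * (x ≫ u) ∈ rangePts r) :
    ∃ (u₀ : U ⟶ D) (_ : IsMonHom u₀), u₀ ≫ r = u := by
  haveI : Mono r := mono_of_closedImmersion r
  haveI : LocallyOfFiniteType D.hom := by rw [← Over.w r]; infer_instance
  haveI : QuasiCompact D.hom := by rw [← Over.w r]; infer_instance
  let up : (PT ⟶ U) →* (PT ⟶ C) :=
    { toFun := fun x => x ≫ u, map_one' := MonObj.one_comp u, map_mul' := fun a b => MonObj.mul_comp a b u }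
  let Γ : Subgroup (PT ⟶ U) := (rangePts r).comap up
  classical
  let rep : (PT ⟶ C) → (PT ⟶ U) := fun s =>
    if h : ∃ x : PT ⟶ U, s⁻¹ * (x ≫ u) ∈ rangePts r then h.choose else 1
  have htop : Γ = ⊤ := by
    refine eq_top_of_finite Γ ((ptsClosed_range r).preimage u) (rep '' R) (hR.image _) fun x => ?_
    obtain ⟨s, hs, hsx⟩ := hcov x
    have h : ∃ y : PT ⟶ U, s⁻¹ * (y ≫ u) ∈ rangePts r := ⟨x, hsx⟩
    refine ⟨rep s, ⟨s, hs, rfl⟩, ?_⟩
    have h1 : s⁻¹ * (rep s ≫ u) ∈ rangePts r := by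
      simp only [rep, dif_pos h]; exact h.choose_spec
    show ((rep s)⁻¹ * x) ≫ u ∈ rangePts r
    rw [MonObj.mul_comp, GrpObj.inv_comp]
    simpa [_root_.mul_assoc] using mul_mem (inv_mem h1) hsx
  haveI : IsReduced U.left := isReduced_of_smooth_field U.hom
  obtain ⟨u₀, hu₀⟩ := exists_lift_pts r u fun x => by
    obtain ⟨q, hq⟩ := (htop ▸ Subgroup.mem_top x : x ∈ Γ)
    exact ⟨q, hq⟩
  exact ⟨u₀, AGFLib.isMonHom_of_mul u₀ fun X a b => by
    rw [← cancel_mono r, Category.assoc, hu₀, MonObj.mul_comp, MonObj.mul_comp, Category.assoc, Category.assoc, hu₀], hu₀⟩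

/-- The smooth identity component. -/
theorem exists_idSub (C : Over (Spec (CommRingCat.of k))) [GrpObj C] [LocallyOfFiniteType C.hom] [QuasiCompact C.hom] :
    ∃ (D : Over (Spec (CommRingCat.of k))) (_ : GrpObj D) (r : D ⟶ C) (_ : IsMonHom r), IsClosedImmersion r.left ∧
      Smooth D.hom ∧ ConnectedSpace D.left ∧ QuasiCompact D.hom ∧
      (∃ R : Set (PT ⟶ C), R.Finite ∧ ∀ p : PT ⟶ C, ∃ s ∈ R, s⁻¹ * p ∈ rangePts r) ∧
      ∀ (U : Over (Spec (CommRingCat.of k))) [GrpObj U] (u : U ⟶ C) [IsMonHom u] [Smooth U.hom] [QuasiCompact U.hom]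
        [ConnectedSpace U.left], ∃ (u₀ : U ⟶ D) (_ : IsMonHom u₀), u₀ ≫ r = u := by
  obtain ⟨D, _, r, hr, hrc, hrs, hrC, hrq, R, hR, hcov⟩ := exists_idComp (P := C)
  haveI := hr; haveI := hrc
  have hcov' : ∀ p : PT ⟶ C, ∃ s ∈ R, s⁻¹ * p ∈ rangePts r := fun p => by
    obtain ⟨s, hs, q, hq⟩ := hcov p
    exact ⟨s, hs, q, by rw [← hq, inv_mul_cancel_left]⟩
  exact ⟨D, inferInstance, r, hr, hrc, hrs, hrC, hrq, ⟨R, hR, hcov'⟩, fun U _ u _ _ _ _ =>
    exists_factor_of_cosets u r R hR fun x => hcov' _⟩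

/-- Over an algebraically closed field, maximality among subtori gives a maximal torus. -/
theorem isMaximalTorus_of_isMaxTorus {G T : Over (Spec (CommRingCat.of k))} [GrpObj G] [GrpObj T] [Smooth G.hom]
    [QuasiCompact G.hom] {i : T ⟶ G} (h : AGF.IsMaxTorus i) : Red.IsMaximalTorus i := by
  haveI := AntiAffine.isSeparated_grp G
  haveI := h.1
  haveI := h.2.1
  rw [MaxTorusBC.isMaximalTorus_iff h.2.2.1]
  intro s
  refine (MaxTorusBC.max_geom_iff i h.2.2.1 (𝟙 (Spec (CommRingCat.of k))) s (Subsingleton.elim _ _)).1 ?_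
  haveI := MaxTorusBC.isMonHom_pullbackId G
  haveI : IsMonHom (MaxTorusBC.pid G).symm.inv := ‹IsMonHom (MaxTorusBC.pid G).hom›
  exact MaxTorusBC.Max.of_iso (show MaxTorusBC.Max i from h.2.2.2) (MaxTorusBC.pid T).symm (MaxTorusBC.pid G).symm
    ((Over.pullbackId (X := Spec (CommRingCat.of k))).inv.naturality i).symm

/-- A Borel subgroup stays one after applying an automorphism. -/
theorem isBorelOver_comp_iso {G B : Over (Spec (CommRingCat.of k))} [GrpObj G] [GrpObj B] {b : B ⟶ G}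
    (hB : Red.IsBorelOver k b) (φ : G ⟶ G) [IsMonHom φ] [IsIso φ] : Red.IsBorelOver k (b ≫ φ) := by
  haveI := hB.1
  haveI := hB.2.1
  haveI : IsIso φ.left := inferInstanceAs (IsIso ((Over.forget _).map φ))
  haveI : IsMonHom (inv φ) := AGFLib.isMonHom_of_mul _ fun X a c => by
    rw [← cancel_mono φ, MonObj.mul_comp _ _ φ, Category.assoc, Category.assoc, Category.assoc, IsIso.inv_hom_id,
      Category.comp_id, Category.comp_id, Category.comp_id]
  haveI : IsIso (inv φ).left := inferInstanceAs (IsIso ((Over.forget _).map (inv φ)))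
  refine ⟨inferInstance, inferInstanceAs (IsClosedImmersion (b.left ≫ φ.left)), hB.2.2.1, hB.2.2.2.1, hB.2.2.2.2.1,
    fun B' _ i' _ f h1 h2 h3 h4 h5 => ?_⟩
  haveI := h1
  exact hB.2.2.2.2.2 B' (i' ≫ inv φ) f (inferInstanceAs (IsClosedImmersion (i'.left ≫ (inv φ).left))) h2 h3 h4 (by
    rw [← Category.assoc, h5, Category.assoc, IsIso.hom_inv_id, Category.comp_id])

end Groth.Agent.NonAffine
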