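import Groth.Agent.NonAffine.BorelMain
import Groth.Agent.SolvGrp.TorusSepClosed
import Groth.Agent.S3006

/-! Tori and Cartan subgroups of Borel subgroups. -/

set_option backward.isDefEq.respectTransparency false
set_option backward.isDefEq.respectTransparency.types false
set_option linter.style.haveILetI false
set_option autoImplicit false

universe u

open CategoryTheory Limits MonoidalCategory CartesianMonoidalCategory MonObj AlgebraicGeometry

namespace Groth.Agent.NonAffine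

open GrpSchLib AGFLib AGFLib.Gen AGFLib.BorelExist SolvGrp

variable {k : Type u} [Field k] [IsAlgClosed k] {G : Over (Spec (CommRingCat.of k))} [GrpObj G]

local notation "PT" => 𝟙_ (Over (Spec (CommRingCat.of k)))

/-- A subgroup of a smaller group which is a maximal torus of the bigger one is one of the smaller. -/
theorem isMaxTorus_of_comp {D H T : Over (Spec (CommRingCat.of k))} [GrpObj D] [GrpObj H] [GrpObj T] {t : T ⟶ D}
    [IsMonHom t] [Mono t] (d : D ⟶ H) [IsMonHom d] [Mono d] (h : AGF.IsMaxTorus (t ≫ d)) : AGF.IsMaxTorus t :=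
  ⟨inferInstance, inferInstance, h.2.2.1, fun T' _ j _ _ f hT' hf =>
    h.2.2.2 T' (j ≫ d) f hT' (by rw [← Category.assoc, hf])⟩

/-- In a connected group a maximal torus of a Borel subgroup is maximal, also in the affine part. -/
theorem maxTorus_of_borel_conn [Smooth G.hom] [QuasiCompact G.hom] [ConnectedSpace G.left] (P : Parts G)
    {B T : Over (Spec (CommRingCat.of k))} [GrpObj B] [GrpObj T] {b : B ⟶ G} (hB : Red.IsBorelOver k b) {t : T ⟶ B}
    (ht : AGF.IsMaxTorus t) :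
    AGF.IsMaxTorus (t ≫ b) ∧ ∃ (D : Over (Spec (CommRingCat.of k))) (_ : GrpObj D) (d : D ⟶ P.N) (u : T ⟶ D)
      (f : D ⟶ B) (zB : P.Z ⟶ B), Red.IsBorelOver k d ∧ AGF.IsMaxTorus (u ≫ d) ∧ (u ≫ d) ≫ P.i = t ≫ b ∧
      f ≫ b = d ≫ P.i ∧ zB ≫ b = P.z := by
  obtain ⟨zB, hzB⟩ := exists_centre_factor P hB
  obtain ⟨D₁, _, d₁, _, z₁, f₁, hD₁, -, hf₁, -⟩ := borel_part P hB
  obtain ⟨hb, hbc, hBs, hBc, hBsol, hBmax⟩ := id hB
  haveI := hb; haveI := hbc; haveI := hBs; haveI := hBc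
  haveI := ht.1; haveI := ht.2.1
  haveI : QuasiCompact B.hom := by rw [← Over.w b]; infer_instance
  haveI : Mono b := mono_of_closedImmersion b
  haveI : Mono P.i := mono_of_closedImmersion P.i
  obtain ⟨D, _, d, hd, hdc, hDs, hDc, hDsol, ⟨f, hf⟩, huniv, hpts⟩ := exists_affine_part P b zB hzB hBsol
  haveI := hd; haveI := hdc; haveI := hDs; haveI := hDc
  haveI : Mono d := mono_of_closedImmersion d
  obtain ⟨g, hg, hg'⟩ := exists_torus_factor P (t ≫ b) ht.2.2.1
  haveI := hg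
  obtain ⟨haT, hsT, hcT, -⟩ := torus_props ht.2.2.1
  haveI := haT; haveI := hsT; haveI := hcT
  obtain ⟨u, hu, hud⟩ := huniv T g t hg'.symm
  haveI := hu
  have hD : Red.IsBorelOver k d := by
    refine ⟨hd, hdc, hDs, hDc, hDsol, fun D' _ i' _ l h1 h2 h3 h4 h5 => ?_⟩
    haveI := h1
    haveI : Mono i' := mono_of_closedImmersion i'
    obtain ⟨hd1, hdc1, hDs1, hDc1, -, hmax1⟩ := hD₁
    haveI := hd1; haveI := hdc1; haveI := hDs1; haveI := hDc1
    haveI : QuasiCompact D₁.hom := by rw [← Over.w d₁]; infer_instance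
    obtain ⟨v, hv, hvd⟩ := huniv D₁ d₁ f₁ hf₁
    haveI : IsIso (v ≫ l) := hmax1 D' i' (v ≫ l) h1 h2 h3 h4 (by rw [Category.assoc, h5, hvd])
    haveI : Mono l := by
      haveI : Mono (l ≫ i') := h5.symm ▸ ‹Mono d›
      exact mono_of_mono l i'
    haveI : IsSplitEpi l := IsSplitEpi.mk' ⟨inv (v ≫ l) ≫ v, by rw [Category.assoc, IsIso.inv_hom_id]⟩
    exact isIso_of_mono_of_isSplitEpi l
  have hcomp : (u ≫ f) = t := by rw [← cancel_mono b, Category.assoc, hf, ← Category.assoc, hud, hg']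
  haveI : Mono (u ≫ f) := hcomp.symm ▸ ht.2.1
  haveI : Mono u := mono_of_mono u f
  haveI : IsMonHom f := AGFLib.isMonHom_of_mul f fun X a a' => by
    rw [← cancel_mono b]
    simp only [Category.assoc, hf, MonObj.mul_comp]
  haveI : Mono (f ≫ b) := hf.symm ▸ mono_comp d P.i
  haveI : Mono f := mono_of_mono f b
  have hu' : AGF.IsMaxTorus u := isMaxTorus_of_comp f (hcomp.symm ▸ ht)
  obtain ⟨T₀, _, i₀, hi₀, _, _, hT₀, hA, -⟩ := exists_borelTorus d hD
  haveI : Mono i₀ := mono_of_mono i₀ d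
  have hmax₀ : AGF.IsMaxTorus (i₀ ≫ d) := isMaxTorus_of_borel d (i₀ ≫ d) hD hT₀ (rangePts_comp d i₀) (by
    rintro _ ⟨c, rfl⟩
    obtain ⟨_, ⟨x, rfl⟩, hx⟩ := hA c
    refine ⟨_, ⟨x, rfl⟩, ?_⟩
    haveI : LocallyOfFiniteType D.hom := inferInstance
    haveI : IsAffine D.left := isAffine_of_isAffineHom d.left
    haveI : IsReduced D.left := isReduced_of_smooth_field D.hom
    haveI : IsReduced P.N.left := isReduced_of_smooth_field P.N.hom
    show IsUnipPt ((x ≫ i₀ ≫ d)⁻¹ * (c ≫ d))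
    rw [← Category.assoc, ← GrpObj.inv_comp, ← MonObj.mul_comp]
    exact (map_isSsPt_isUnipPt d _).2 hx)
  haveI : QuasiCompact D.hom := by rw [← Over.w d]; infer_instance
  obtain ⟨c, φ, hφ⟩ := maxTori_conj hu' (isMaxTorus_of_comp d hmax₀)
  have hN : AGF.IsMaxTorus (u ≫ d) := isMaxTorus_of_conj ht.2.2.1 hmax₀ (c ≫ d) φ (by
    have h := congrArg (· ≫ d) hφ
    simp only [MonObj.mul_comp, GrpObj.inv_comp, Category.assoc] at h
    exact h.symm)
  have hud' : (u ≫ d) ≫ P.i = t ≫ b := by rw [hud, hg']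
  refine ⟨?_, D, inferInstance, d, u, f, zB, hD, hN, hud', hf, hzB⟩
  refine ⟨inferInstance, inferInstance, ht.2.2.1, fun T' _ j _ _ l hT' hl => ?_⟩
  obtain ⟨j', hj', hjj⟩ := exists_torus_factor P j hT'
  haveI := hj'
  haveI : Mono (j' ≫ P.i) := hjj.symm ▸ ‹Mono j›
  haveI : Mono j' := mono_of_mono j' P.i
  exact hN.2.2.2 T' j' l hT' (by rw [← cancel_mono P.i, Category.assoc, hjj, hl, hud'])

/-- A maximal torus of a Borel subgroup is maximal. -/
theorem isMaximalTorus_of_borel [Smooth G.hom] [QuasiCompact G.hom] {B T : Over (Spec (CommRingCat.of k))} [GrpObj B]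
    [GrpObj T] {b : B ⟶ G} (hB : Red.IsBorelOver k b) {t : T ⟶ B} (ht : Red.IsMaximalTorus t) :
    Red.IsMaximalTorus (t ≫ b) := by
  haveI := AntiAffine.isSeparated_grp G
  obtain ⟨G₀, _, r, hr, hrc, hrs, hrC, hrq, -, huniv⟩ := exists_idSub G
  haveI := hrc; haveI := hrs; haveI := hrC; haveI := hrq
  obtain ⟨hb, hbc, hBs, hBc, hBsol, hBmax⟩ := id hB
  haveI := hb; haveI := hbc; haveI := hBs; haveI := hBc
  haveI : QuasiCompact B.hom := by rw [← Over.w b]; infer_instance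
  haveI : Mono r := mono_of_closedImmersion r
  obtain ⟨b₀, hb₀, hb₀r⟩ := huniv B b
  haveI := hb₀
  have hB₀ : Red.IsBorelOver k b₀ := by
    haveI : IsClosedImmersion (b₀.left ≫ r.left) := by rw [← Over.comp_left, hb₀r]; exact hbc
    refine ⟨hb₀, IsClosedImmersion.of_comp b₀.left r.left, hBs, hBc, hBsol, fun B' _ i' _ f h1 h2 h3 h4 h5 => ?_⟩
    haveI := h1
    exact hBmax B' (i' ≫ r) f (inferInstanceAs (IsClosedImmersion (i'.left ≫ r.left))) h2 h3 h4
      (by rw [← Category.assoc, h5, hb₀r])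
  obtain ⟨P⟩ := exists_parts G₀
  have h := (maxTorus_of_borel_conn P hB₀ (isMaxTorus_of_isMaximalTorus ht)).1
  haveI := ht.1; haveI := ht.2.1
  haveI : Mono b := mono_of_closedImmersion b
  refine isMaximalTorus_of_isMaxTorus ⟨inferInstance, inferInstance, ht.2.2.1, fun T' _ j _ _ l hT' hl => ?_⟩
  obtain ⟨haT, hsT, hcT, -⟩ := torus_props hT'
  haveI := haT; haveI := hsT; haveI := hcT
  haveI : QuasiCompact T'.hom := inferInstance
  obtain ⟨j', hj', hjj⟩ := huniv T' j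
  haveI := hj'
  haveI : Mono (j' ≫ r) := hjj.symm ▸ ‹Mono j›
  haveI : Mono j' := mono_of_mono j' r
  exact h.2.2.2 T' j' l hT' (by rw [← cancel_mono r, Category.assoc, hjj, hl, Category.assoc, hb₀r])

/-- A Cartan subgroup of a Borel subgroup of a connected group is one of the group. -/
theorem isCartanOver_of_borel [Smooth G.hom] [QuasiCompact G.hom] [ConnectedSpace G.left]
    {B C : Over (Spec (CommRingCat.of k))} [GrpObj B] [GrpObj C] {b : B ⟶ G} (hB : Red.IsBorelOver k b) {c : C ⟶ B}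
    (hC : SGA3x.IsCartanOver k c) : SGA3x.IsCartanOver k (c ≫ b) := by
  haveI := AntiAffine.isSeparated_grp G
  obtain ⟨hc1, hc2, T, _, i, hi, hci⟩ := hC
  haveI := hc1; haveI := hc2; haveI := hi.1; haveI := hi.2.1
  obtain ⟨hb, hbc, hBs, -⟩ := id hB
  haveI := hb; haveI := hbc
  haveI : Mono b := mono_of_closedImmersion b
  obtain ⟨P⟩ := exists_parts G
  obtain ⟨-, D, _, d, u, f, zB, hD, hN, hudi, hf, hzB⟩ := maxTorus_of_borel_conn P hB (isMaxTorus_of_isMaximalTorus hi)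
  have hmax := isMaximalTorus_of_borel hB hi
  obtain ⟨C', _, c', hc', hcl', hs'⟩ := MaxTorCent.exists_centralizer (i ≫ b) (TorusQI.isMultTypeFT_of_isTorus hi.2.2.1)
  haveI := hc'.1; haveI := hc'.2.1; haveI := hcl'; haveI := hs'
  haveI := hN.1; haveI := hD.1
  haveI : IsReduced C'.left := isReduced_of_smooth_field C'.hom
  haveI : LocallyOfFiniteType B.hom := inferInstance
  haveI : IsAffineHom P.N.hom := isAffineHom_of_isAffine P.N.hom
  obtain ⟨CN, _, cN, hcN, -, -⟩ := Groth.Agent.S5247.result T P.N (TorusQI.isMultTypeFT_of_isTorus hi.2.2.1) inferInstance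
    inferInstance (u ≫ d)
  haveI := hcN.1
  haveI : IsClosedImmersion d.left := hD.2.1
  haveI : Mono d := mono_of_closedImmersion d
  haveI : IsMonHom u := AGFLib.isMonHom_of_mul u fun X a b => by
    rw [← cancel_mono d, Category.assoc, MonObj.mul_comp a b (u ≫ d), MonObj.mul_comp, Category.assoc, Category.assoc]
  have hle := centralizer_le_borel hN hcN d hD (rangePts_comp d u)
  haveI : Mono P.i := mono_of_closedImmersion P.i
  obtain ⟨l, hl⟩ := exists_lift_pts b c' fun w => by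
    obtain ⟨x, n, hxn⟩ := P.decomp (w ≫ c')
    obtain ⟨y, hy⟩ : n ∈ rangePts d := hle ((mem_centralizer_pts (u ≫ d) hi.2.2.1 hcN n).mpr (by
      rintro _ ⟨s, rfl⟩
      have h1 := (hc'.2.2 _ (w ≫ c')).mp ⟨w, rfl⟩ _ (𝟙 _) s
      rw [Category.id_comp, ← hxn, ← hudi, ← Category.assoc s] at h1
      have h2 : (x ≫ P.z) * ((s ≫ u ≫ d) ≫ P.i) = ((s ≫ u ≫ d) ≫ P.i) * (x ≫ P.z) := P.central x _
      rw [← _root_.mul_assoc ((s ≫ u ≫ d) ≫ P.i), ← h2, _root_.mul_assoc, _root_.mul_assoc] at h1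
      have h3 := mul_left_cancel h1
      rw [← MonObj.mul_comp, ← MonObj.mul_comp] at h3
      exact (cancel_mono P.i).mp h3))
    refine ⟨(x ≫ zB) * (y ≫ f), ?_⟩
    rw [← hxn, MonObj.mul_comp, Category.assoc, hzB, Category.assoc, hf, ← show y ≫ d = n from hy, Category.assoc]
  refine ⟨inferInstance, inferInstance, T, inferInstance, i ≫ b, hmax, inferInstance, inferInstance, fun X g => ?_⟩
  constructor
  · rintro ⟨z, rfl⟩ X' x h
    have h1 := congrArg (· ≫ b) ((hci.2.2 X (z ≫ c)).mp ⟨z, rfl⟩ X' x h)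
    simpa only [MonObj.mul_comp, Category.assoc] using h1
  · intro hg
    obtain ⟨w, hw⟩ := (hc'.2.2 X g).mpr hg
    have hwl : (w ≫ l) ≫ b = g := by rw [Category.assoc, hl, hw]
    obtain ⟨z, hz⟩ := (hci.2.2 X (w ≫ l)).mpr fun X' x h => by
      rw [← cancel_mono b, MonObj.mul_comp, MonObj.mul_comp, Category.assoc x, hwl, Category.assoc h]
      exact hg X' x h
    exact ⟨z, by rw [← Category.assoc, hz, hwl]⟩

/-- In a connected solvable group the normaliser of a maximal torus is its centraliser. -/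
theorem exists_factor_of_normalizes {B T C : Over (Spec (CommRingCat.of k))} [GrpObj B] [GrpObj T] [GrpObj C]
    [Smooth B.hom] [QuasiCompact B.hom] [ConnectedSpace B.left] (hs : Red.IsSolvableGrp B) {i : T ⟶ B}
    (hi : Red.IsMaximalTorus i) {c : C ⟶ B} (hc : Red.IsCentralizerOf i c) {X : Over (Spec (CommRingCat.of k))}
    (y : X ⟶ B)
    (hy : ∀ (X' : Over (Spec (CommRingCat.of k))) (x : X' ⟶ X) (h : X' ⟶ T),
      (∃ h' : X' ⟶ T, (x ≫ y) * (h ≫ i) * (x ≫ y)⁻¹ = h' ≫ i) ∧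
      (∃ h' : X' ⟶ T, (x ≫ y)⁻¹ * (h ≫ i) * (x ≫ y) = h' ≫ i)) :
    ∃ z : X ⟶ C, z ≫ c = y := by
  haveI := AntiAffine.isSeparated_grp B
  haveI := hi.1; haveI := hi.2.1; haveI := hc.1; haveI := hc.2.1
  obtain ⟨P⟩ := exists_parts B
  haveI : Mono P.i := mono_of_closedImmersion P.i
  obtain ⟨g, hg, hgi⟩ := exists_torus_factor P i hi.2.2.1
  haveI := hg
  haveI : Mono (g ≫ P.i) := hgi.symm ▸ hi.2.1
  haveI : Mono g := mono_of_mono g P.i
  haveI : IsAffineHom P.N.hom := isAffineHom_of_isAffine P.N.hom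
  haveI : IsClosedImmersion g.left :=
    MultTypeLib.SubgroupTransporter.isClosedImmersion_of_mono (TorusQI.isMultTypeFT_of_isTorus hi.2.2.1) g
  haveI : IsClosedImmersion i.left := by rw [← hgi]; exact inferInstanceAs (IsClosedImmersion (g.left ≫ P.i.left))
  obtain ⟨-, N, _, n, hn, hnc, hns⟩ := Groth.Agent.S3006.result _ B T i ‹_› hi.2.2.1
  haveI := hn.1; haveI := hn.2.1; haveI := hnc; haveI := hns
  obtain ⟨hccl, hcsm⟩ := centralizer_closed_smooth i hi.2.2.1 hc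
  haveI := hccl; haveI := hcsm
  haveI : IsReduced N.left := isReduced_of_smooth_field N.hom
  haveI : LocallyOfFiniteType C.hom := inferInstance
  haveI : IsReduced P.N.left := isReduced_of_smooth_field P.N.hom
  haveI : IsMonHom P.i := inferInstance
  haveI : Group.IsSolvable (PT ⟶ P.N) := isSolvable_pts (isSolvableGrp_of_mono P.i hs)
  obtain ⟨l, hl⟩ := exists_lift_pts c n fun w => by
    obtain ⟨x, m, hxm⟩ := P.decomp (w ≫ n)
    have hcomm : ∀ s : PT ⟶ T, Commute m (s ≫ g) := fun s => by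
      obtain ⟨s', hs'⟩ := ((hn.2.2 _ (w ≫ n)).mp ⟨w, rfl⟩ _ (𝟙 _) s).1
      rw [Category.id_comp, ← hxm, ← hgi, ← Category.assoc s, ← Category.assoc s'] at hs'
      have hcx : ∀ e, Commute (x ≫ P.z) e := fun e => P.central x e
      have e1 : (m ≫ P.i) * ((s ≫ g) ≫ P.i) * (m ≫ P.i)⁻¹ = (s' ≫ g) ≫ P.i := by
        rw [← hs', _root_.mul_inv_rev]
        generalize x ≫ P.z = A at hcx ⊢
        generalize m ≫ P.i = M'
        generalize (s ≫ g) ≫ P.i = S'
        calc M' * S' * M'⁻¹ = A * (M' * S' * M'⁻¹) * A⁻¹ := by rw [(hcx _).eq, mul_inv_cancel_right]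
          _ = _ := by group
      rw [← GrpObj.inv_comp, ← MonObj.mul_comp, ← MonObj.mul_comp] at e1
      have e2 : m * (s ≫ g) * m⁻¹ = s' ≫ g := (cancel_mono P.i).mp e1
      have hu : IsUnipPt (m * (s ≫ g) * m⁻¹ * (s ≫ g)⁻¹) := isUnipPt_of_commutator (by
        rw [commutator_def, ← commutatorElement_def]
        exact Subgroup.commutator_mem_commutator (Subgroup.mem_top _) (Subgroup.mem_top _))
      have hss : IsSsPt (m * (s ≫ g) * m⁻¹ * (s ≫ g)⁻¹) := by
        rw [e2, ← GrpObj.inv_comp, ← MonObj.mul_comp]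
        exact isSsPt_of_torus hi.2.2.1 g _
      exact mul_inv_eq_iff_eq_mul.mp (mul_inv_eq_one.mp (eq_one_of_isSsPt_isUnipPt hss hu))
    obtain ⟨z, hz⟩ := (hc.2.2 _ (w ≫ n)).mpr fun X' t h => by
      obtain ⟨CN, _, cN, hcN, -, -⟩ := Groth.Agent.S5247.result T P.N (TorusQI.isMultTypeFT_of_isTorus hi.2.2.1)
        inferInstance inferInstance g
      haveI := hcN.1
      obtain ⟨m', hm'⟩ := (mem_centralizer_pts g hi.2.2.1 hcN m).mpr (by rintro _ ⟨s, rfl⟩; exact hcomm s)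
      have h1 := congrArg (· ≫ P.i) ((hcN.2.2 _ m).mp ⟨m', hm'⟩ X' t h)
      simp only [MonObj.mul_comp, Category.assoc, hgi] at h1
      rw [← hxm, MonObj.comp_mul, _root_.mul_assoc, h1, ← _root_.mul_assoc]
      have h2 : (t ≫ x ≫ P.z) * (h ≫ i) = (h ≫ i) * (t ≫ x ≫ P.z) := by
        simpa only [Category.assoc] using P.central (t ≫ x) (h ≫ i)
      rw [h2, _root_.mul_assoc]
    exact ⟨z, hz⟩
  obtain ⟨w, hw⟩ := (hn.2.2 X y).mpr hy
  exact ⟨w ≫ l, by rw [Category.assoc, hl, hw]⟩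

/-- In a Borel subgroup the normaliser of a Cartan subgroup is the Cartan subgroup. -/
theorem cartan_inter_borel [Smooth G.hom] [QuasiCompact G.hom] {B C : Over (Spec (CommRingCat.of k))} [GrpObj B]
    [GrpObj C] {b : B ⟶ G} (hB : Red.IsBorelOver k b) {c : C ⟶ B} (hC : SGA3x.IsCartanOver k c)
    {N : Over (Spec (CommRingCat.of k))} [GrpObj N] {n : N ⟶ G} (hN : Red.IsNormalizerOf (c ≫ b) n)
    {X : Over (Spec (CommRingCat.of k))} (g : X ⟶ G) :
    ((∃ x : X ⟶ N, x ≫ n = g) ∧ (∃ y : X ⟶ B, y ≫ b = g)) ↔ ∃ z : X ⟶ C, z ≫ c ≫ b = g := by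
  haveI := AntiAffine.isSeparated_grp G
  obtain ⟨hc1, hc2, T, _, i, hi, hci⟩ := hC
  obtain ⟨hb, hbc, hBs, hBc, hBsol, -⟩ := hB
  haveI := hb; haveI := hbc; haveI := hBs; haveI := hBc; haveI := hc1; haveI := hc2
  haveI : Mono b := mono_of_closedImmersion b
  haveI : QuasiCompact B.hom := by rw [← Over.w b]; infer_instance
  haveI : IsSeparated B.hom := AntiAffine.isSeparated_grp B
  constructor
  · rintro ⟨hx, y, rfl⟩
    have h := (hN.2.2 X (y ≫ b)).mp hx
    have hyc : ∀ (X' : Over (Spec (CommRingCat.of k))) (x : X' ⟶ X) (h' : X' ⟶ C),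
        (∃ h'' : X' ⟶ C, (x ≫ y) * (h' ≫ c) * (x ≫ y)⁻¹ = h'' ≫ c) ∧
        (∃ h'' : X' ⟶ C, (x ≫ y)⁻¹ * (h' ≫ c) * (x ≫ y) = h'' ≫ c) := fun X' x h' => by
      obtain ⟨⟨p, hp⟩, q, hq⟩ := h X' x h'
      refine ⟨⟨p, ?_⟩, q, ?_⟩
      · rw [← cancel_mono b]
        simpa only [MonObj.mul_comp, GrpObj.inv_comp, Category.assoc] using hp
      · rw [← cancel_mono b]
        simpa only [MonObj.mul_comp, GrpObj.inv_comp, Category.assoc] using hq
    obtain ⟨z, hz⟩ := exists_factor_of_normalizes hBsol hi hci y fun X' x t =>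
      ⟨MaxTorCent.exists_conj_torus hi hci y (fun X'' x' w => (hyc X'' x' w).1) X' x t, by
        obtain ⟨t', ht'⟩ := MaxTorCent.exists_conj_torus hi hci y⁻¹ (fun X'' x' w => by
          obtain ⟨w', hw'⟩ := (hyc X'' x' w).2
          exact ⟨w', by rw [GrpObj.comp_inv, inv_inv, hw']⟩) X' x t
        exact ⟨t', by rw [← ht', GrpObj.comp_inv, inv_inv]⟩⟩
    exact ⟨z, by rw [← Category.assoc, hz]⟩
  · rintro ⟨z, rfl⟩
    refine ⟨(hN.2.2 X _).mpr fun X' x h' => ⟨⟨(x ≫ z) * h' * (x ≫ z)⁻¹, ?_⟩, (x ≫ z)⁻¹ * h' * (x ≫ z), ?_⟩,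
      z ≫ c, Category.assoc _ _ _⟩
    · simp only [MonObj.mul_comp, GrpObj.inv_comp, Category.assoc]
    · simp only [MonObj.mul_comp, GrpObj.inv_comp, Category.assoc]

end Groth.Agent.NonAffine
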