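import Groth.Agent.NonAffine.Borel

/-! Existence, conjugacy and covering property of Borel subgroups of smooth groups. -/

set_option backward.isDefEq.respectTransparency false
set_option backward.isDefEq.respectTransparency.types false
set_option linter.style.haveILetI false
set_option autoImplicit false

universe u

open CategoryTheory Limits MonoidalCategory CartesianMonoidalCategory MonObj AlgebraicGeometry

namespace Groth.Agent.NonAffine

open GrpSchLib AGFLib AGFLib.Gen AGFLib.BorelExist SolvGrp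

variable {k : Type u} [Field k] [IsAlgClosed k] {G : Over (Spec (CommRingCat.of k))} [GrpObj G]

local notation "PT" => 𝟙_ (Over (Spec (CommRingCat.of k)))

/-- A Borel subgroup is the central part times a Borel subgroup of the affine part. -/
theorem borel_part [Smooth G.hom] [QuasiCompact G.hom] (P : Parts G) {B : Over (Spec (CommRingCat.of k))} [GrpObj B]
    {b : B ⟶ G} (hB : Red.IsBorelOver k b) :
    ∃ (D : Over (Spec (CommRingCat.of k))) (_ : GrpObj D) (d : D ⟶ P.N) (_ : IsMonHom d) (zB : P.Z ⟶ B) (f : D ⟶ B),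
      Red.IsBorelOver k d ∧ zB ≫ b = P.z ∧ f ≫ b = d ≫ P.i ∧
      ∀ w : PT ⟶ B, ∃ (x : PT ⟶ P.Z) (y : PT ⟶ D), w ≫ b = (x ≫ P.z) * (y ≫ d ≫ P.i) := by
  obtain ⟨zB, hzB⟩ := exists_centre_factor P hB
  obtain ⟨hb, hbc, hBs, hBc, hBsol, hBmax⟩ := hB
  haveI := hb; haveI := hbc; haveI := hBs; haveI := hBc
  haveI : QuasiCompact B.hom := by rw [← Over.w b]; infer_instance
  obtain ⟨D, _, d, hd, hdc, hDs, hDc, hDsol, ⟨f, hf⟩, huniv, hpts⟩ := exists_affine_part P b zB hzB hBsol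
  refine ⟨D, inferInstance, d, hd, zB, f, ⟨hd, hdc, hDs, hDc, hDsol, fun D' _ i' _ g h1 h2 h3 h4 h5 => ?_⟩, hzB, hf, hpts⟩
  haveI := h1; haveI := h2; haveI := h3
  haveI : Mono P.i := mono_of_closedImmersion P.i
  haveI : Mono i' := mono_of_closedImmersion i'
  haveI : Mono d := mono_of_closedImmersion d
  haveI : QuasiCompact D'.hom := by rw [← Over.w i']; infer_instance
  haveI : IsMonHom (i' ≫ P.i) := inferInstance
  obtain ⟨M, _, m, hm, hmc, hMs, hMq, hMc, hsol, ⟨fD, hfD⟩, ⟨fZ, hfZ⟩, -⟩ := exists_prod P (i' ≫ P.i) h4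
  haveI := hm; haveI := hmc
  haveI : Mono m := mono_of_closedImmersion m
  haveI : IsReduced B.left := isReduced_of_smooth_field B.hom
  haveI : LocallyOfFiniteType M.hom := inferInstance
  obtain ⟨fB, hfB⟩ := exists_lift_pts m b fun t => by
    obtain ⟨x, y, hxy⟩ := hpts t
    refine ⟨(x ≫ fZ) * (y ≫ g ≫ fD), ?_⟩
    rw [hxy, MonObj.mul_comp, Category.assoc, hfZ, Category.assoc, Category.assoc, hfD, ← Category.assoc g, h5]
  haveI := hBmax M m fB hmc hMs hMc hsol hfB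
  obtain ⟨u₀, -, hu₀⟩ := huniv D' i' (fD ≫ inv fB) (by
    rw [← hfD, ← hfB, Category.assoc, IsIso.inv_hom_id_assoc])
  exact ⟨u₀, by rw [← cancel_mono d, Category.assoc, hu₀, h5, Category.id_comp],
    by rw [← cancel_mono i', Category.assoc, h5, hu₀, Category.id_comp]⟩

/-- Every smooth connected group has a Borel subgroup. -/
theorem exists_borel [Smooth G.hom] [QuasiCompact G.hom] [ConnectedSpace G.left] :
    ∃ (B : Over (Spec (CommRingCat.of k))) (_ : GrpObj B) (b : B ⟶ G), Red.IsBorelOver k b := by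
  haveI := AntiAffine.isSeparated_grp G
  obtain ⟨P⟩ := exists_parts G
  haveI : QuasiCompact P.N.hom := inferInstance
  obtain ⟨D, _, d, -, -, -, hD, -, -⟩ := AGFLib.Borel.exists_borel P.N
  obtain ⟨hd, hdc, hDs, hDc, hDsol, hDmax⟩ := hD
  haveI := hd; haveI := hdc; haveI := hDs; haveI := hDc
  haveI : QuasiCompact D.hom := by rw [← Over.w d]; infer_instance
  obtain ⟨M, _, m, hm, hmc, hMs, hMq, hMc, hsol, ⟨fD, hfD⟩, ⟨fZ, hfZ⟩, -⟩ := exists_prod P (d ≫ P.i) hDsol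
  haveI := hm; haveI := hmc; haveI := hMs
  refine ⟨M, inferInstance, m, hm, hmc, hMs, hMc, hsol, fun B' _ i' _ g h1 h2 h3 h4 h5 => ?_⟩
  haveI := h1; haveI := h2; haveI := h3
  haveI : Mono i' := mono_of_closedImmersion i'
  haveI : Mono m := mono_of_closedImmersion m
  haveI : QuasiCompact B'.hom := by rw [← Over.w i']; infer_instance
  obtain ⟨D', _, d', hd', hd'c, hD's, hD'c, hD'sol, -, huniv, hpts⟩ :=
    exists_affine_part P i' (fZ ≫ g) (by rw [Category.assoc, h5, hfZ]) h4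
  obtain ⟨u₀, -, hu₀⟩ := huniv D d (fD ≫ g) (by rw [Category.assoc, h5, hfD])
  haveI := hd'
  haveI := hDmax D' d' u₀ hd'c hD's hD'c hD'sol hu₀
  haveI : IsReduced B'.left := isReduced_of_smooth_field B'.hom
  haveI : LocallyOfFiniteType M.hom := inferInstance
  obtain ⟨l, hl⟩ := exists_lift_pts m i' fun t => by
    obtain ⟨x, y, hxy⟩ := hpts t
    refine ⟨(x ≫ fZ) * ((y ≫ inv u₀) ≫ fD), ?_⟩
    rw [hxy, MonObj.mul_comp, Category.assoc, hfZ, Category.assoc (y ≫ inv u₀), hfD, Category.assoc,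
      ← Category.assoc (inv u₀), ← hu₀, IsIso.inv_hom_id_assoc]
  exact ⟨l, by rw [← cancel_mono m, Category.assoc, hl, h5, Category.id_comp],
    by rw [← cancel_mono i', Category.assoc, h5, hl, Category.id_comp]⟩

/-- Borel subgroups of a connected group are conjugate. -/
theorem borel_conj [Smooth G.hom] [QuasiCompact G.hom] [ConnectedSpace G.left]
    {B₁ B₂ : Over (Spec (CommRingCat.of k))} [GrpObj B₁] [GrpObj B₂] {b₁ : B₁ ⟶ G} {b₂ : B₂ ⟶ G}
    (h₁ : Red.IsBorelOver k b₁) (h₂ : Red.IsBorelOver k b₂) :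
    ∃ g : PT ⟶ G, SGA3x.ConjBy b₁ b₂ g := by
  haveI := AntiAffine.isSeparated_grp G
  obtain ⟨P⟩ := exists_parts G
  obtain ⟨D₁, _, d₁, _, z₁, f₁, hD₁, -, -, hp₁⟩ := borel_part P h₁
  obtain ⟨D₂, _, d₂, _, z₂, f₂, hD₂, hz₂, hf₂, -⟩ := borel_part P h₂
  obtain ⟨g, φ, hφ⟩ := Groth.Agent.S3900.result k P.N D₁ D₂ d₁ d₂ hD₁ hD₂
  refine ⟨g ≫ P.i, ?_⟩
  have h1' := isBorelOver_comp_iso h₁ (MaxTorCent.conjEnd (g ≫ P.i))
  obtain ⟨hb₁, hbc₁, hBs₁, hBc₁, -, -⟩ := h₁
  obtain ⟨hb₂, hbc₂, hBs₂, hBc₂, hsol₂, -⟩ := h₂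
  haveI := hb₁; haveI := hbc₁; haveI := hBs₁; haveI := hb₂; haveI := hbc₂; haveI := hBs₂
  haveI : IsReduced B₁.left := isReduced_of_smooth_field B₁.hom
  haveI : LocallyOfFiniteType B₂.hom := inferInstance
  haveI : Mono b₂ := mono_of_closedImmersion b₂
  obtain ⟨l, hl⟩ := exists_lift_pts b₂ (b₁ ≫ MaxTorCent.conjEnd (g ≫ P.i)) fun t => by
    obtain ⟨x, y, hxy⟩ := hp₁ t
    refine ⟨(x ≫ z₂) * ((y ≫ φ.hom) ≫ f₂), ?_⟩
    rw [MonObj.mul_comp, Category.assoc, hz₂, Category.assoc (y ≫ φ.hom), hf₂, Category.assoc, ← Category.assoc φ.hom,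
      hφ, ← Category.assoc, ← Category.assoc t, MaxTorCent.comp_conjEnd, hxy]
    simp only [MonObj.comp_mul, GrpObj.comp_inv, MonObj.mul_comp, GrpObj.inv_comp, Category.assoc]
    rw [← Category.assoc y (toUnit D₁), toUnit_unique (y ≫ toUnit D₁) (toUnit _), toUnit_unique (toUnit _) (𝟙 PT),
      Category.id_comp]
    have hc : Commute (x ≫ P.z) (g ≫ P.i) := P.central x _
    rw [← _root_.mul_assoc, ← _root_.mul_assoc, ← _root_.mul_assoc, hc.eq]
  haveI : IsMonHom l := AGFLib.isMonHom_of_mul l fun X a b => by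
    rw [← cancel_mono b₂, Category.assoc, hl, MonObj.mul_comp, MonObj.mul_comp, Category.assoc, Category.assoc, hl]
  haveI := h1'.2.2.2.2.2 B₂ b₂ l hbc₂ hBs₂ hBc₂ hsol₂ hl
  refine ⟨asIso l, ?_⟩
  rw [asIso_hom, hl, MaxTorCent.comp_conjEnd]

/-- Every point of a connected group lies in a Borel subgroup. -/
theorem mem_borel [Smooth G.hom] [QuasiCompact G.hom] [ConnectedSpace G.left] (g : PT ⟶ G) :
    ∃ (B : Over (Spec (CommRingCat.of k))) (_ : GrpObj B) (b : B ⟶ G), Red.IsBorelOver k b ∧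
      ∃ g' : PT ⟶ B, g' ≫ b = g := by
  obtain ⟨P⟩ := exists_parts G
  obtain ⟨B, _, b, hB⟩ := exists_borel (G := G)
  obtain ⟨D, _, d, _, zB, f, hD, hzB, hf, -⟩ := borel_part P hB
  obtain ⟨z, n, hzn⟩ := P.decomp g
  obtain ⟨x, y, hxy⟩ := Groth.Agent.S3910.result k P.N D d hD n
  haveI := hB.1
  refine ⟨B, inferInstance, b ≫ MaxTorCent.conjEnd (x ≫ P.i), isBorelOver_comp_iso hB _, (z ≫ zB) * (y ≫ f), ?_⟩
  rw [← Category.assoc, MonObj.mul_comp, Category.assoc z, hzB, Category.assoc y, hf, MaxTorCent.comp_conjEnd,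
    toUnit_unique (toUnit _) (𝟙 PT), Category.id_comp, ← hzn, ← hxy]
  simp only [MonObj.mul_comp, GrpObj.inv_comp, Category.assoc]
  have hc : Commute (z ≫ P.z) (x ≫ P.i) := P.central z _
  rw [← _root_.mul_assoc, ← _root_.mul_assoc, ← _root_.mul_assoc, hc.eq]

end Groth.Agent.NonAffine
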