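import Groth.Agent.NonAffine.CartanImage
import Groth.Agent.S3927
import Groth.Agent.S3278
import Groth.Agent.S3280
import Groth.Agent.SolvGrp.MaxUnip

/-! A surjective homomorphism maps the affine part onto the affine part, and maximal tori onto maximal tori. -/

set_option backward.isDefEq.respectTransparency false
set_option backward.isDefEq.respectTransparency.types false
set_option linter.style.haveILetI false
set_option autoImplicit false

universe u

open CategoryTheory Limits MonoidalCategory CartesianMonoidalCategory MonObj AlgebraicGeometry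

namespace Groth.Agent.NonAffine

open GrpSchLib AGFLib AGFLib.Gen AGFLib.BorelExist AGFLib.BorelFixed SolvGrp

variable {k : Type u} [Field k] [IsAlgClosed k]

local notation "PT" => 𝟙_ (Over (Spec (CommRingCat.of k)))

/-- Homomorphisms from connected proper groups to affine groups are trivial on points. -/
theorem pt_comp_eq_one_of_proper {A J : Over (Spec (CommRingCat.of k))} [GrpObj A] [GrpObj J] [IsProper A.hom]
    [ConnectedSpace A.left] [IsAffine J.left] [LocallyOfFiniteType J.hom] (f : A ⟶ J) [IsMonHom f] (a : PT ⟶ A) :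
    a ≫ f = 1 := by
  haveI : IsAffineHom J.hom := isAffineHom_of_isAffine J.hom
  haveI : QuasiCompact J.hom := inferInstance
  obtain ⟨I, _, p, j, hp, hj, hpj, hjc, hpf, hps, hIl, hIq⟩ := GrpSchLib.ImageFactor.exists_image f
  haveI := hp; haveI := hjc; haveI := hps
  haveI : IsAffine I.left := isAffine_of_isAffineHom j.left
  haveI : IsSeparated I.hom := GrpSchLib.AntiAffine.isSeparated_grp I
  haveI : UniversallyClosed I.hom := by
    haveI : UniversallyClosed (p.left ≫ I.hom) := by rw [Over.w p]; infer_instance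
    exact UniversallyClosed.of_comp_surjective p.left I.hom
  haveI : IsProper I.hom := ⟨⟩
  haveI : IsFinite I.hom := IsFinite.iff_isProper_and_isAffineHom.2 ⟨inferInstance, isAffineHom_of_isAffine _⟩
  haveI : ConnectedSpace I.left := p.left.surjective.connectedSpace p.left.continuous
  haveI : Finite I.left := by
    refine Set.finite_univ_iff.1 ((I.hom.finite_preimage_singleton (IsLocalRing.closedPoint k)).subset fun x _ => ?_)
    exact Subsingleton.elim (α := Spec (CommRingCat.of k)) _ _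
  haveI : T1Space I.left := ⟨fun x => by
    haveI : JacobsonSpace I.left := LocallyOfFiniteType.jacobsonSpace I.hom
    have hd : IsClosed (closedPoints I.left) := by
      rw [← Set.biUnion_of_singleton (closedPoints I.left)]
      exact (Set.toFinite _).isClosed_biUnion fun y hy => hy
    have := eq_univ_of_forall_cp hd fun t => isClosed_cp t
    exact this.ge (Set.mem_univ x)⟩
  haveI : DiscreteTopology I.left := Finite.instDiscreteTopology
  haveI : Subsingleton I.left := PreconnectedSpace.trivial_of_discrete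
  have e : a ≫ p = 1 := cp_injective (Subsingleton.elim _ _)
  rw [← hpj, ← Category.assoc, e, MonObj.one_comp]

/-- A commutative connected group maps into a closed subgroup of an affine group once its affine part does. -/
theorem comp_mem_of_affine_part {E J J' : Over (Spec (CommRingCat.of k))} [GrpObj E] [GrpObj J] [GrpObj J']
    [Smooth E.hom] [QuasiCompact E.hom] [ConnectedSpace E.left] [IsAffine J.left] [LocallyOfFiniteType J.hom]
    (f : E ⟶ J) [IsMonHom f] (j : J' ⟶ J) [IsMonHom j] [IsClosedImmersion j.left] (hj : AlgGrp.IsNormalHom j)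
    (h : ∀ (U : Over (Spec (CommRingCat.of k))) [GrpObj U] (u : U ⟶ E) [IsMonHom u] [IsClosedImmersion u.left]
      [Smooth U.hom] [ConnectedSpace U.left] [IsAffine U.left] (x : PT ⟶ U), (x ≫ u) ≫ f ∈ rangePts j)
    (y : PT ⟶ E) : y ≫ f ∈ rangePts j := by
  haveI := AntiAffine.isSeparated_grp E
  obtain ⟨N, _, i, ⟨hi, hic, hiS, hiC, hiA, hiN⟩, hmax, -⟩ := Groth.Agent.S11398.result k E
  haveI := hi; haveI := hic; haveI := hiS; haveI := hiC; haveI := hiA
  obtain ⟨A, _, α, hα, hAp, hAs, hAc, hαs, hαf, hker⟩ := AGFLib.QuasiComp.exists_abelian_quot i hiN hmax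
  haveI := hα; haveI := hAp; haveI := hAs; haveI := hAc; haveI := hαs; haveI := hαf
  obtain ⟨Q, _, q, hq, hQa, hQl, hqf, hqs, hqk⟩ := Groth.Agent.S3278.result k J J' j hj
  haveI := hq; haveI := hQa; haveI := hQl
  haveI : IsReduced N.left := isReduced_of_smooth_field N.hom
  haveI : IsAffineHom Q.hom := isAffineHom_of_isAffine Q.hom
  haveI : QuasiCompact Q.hom := inferInstance
  haveI := AntiAffine.isSeparated_grp Q
  have hz : i ≫ f ≫ q = toUnit N ≫ η[Q] := hom_ext_pts fun x => by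
    obtain ⟨z, hz⟩ := h N i x
    change z ≫ j = _ at hz
    rw [← Category.assoc x i, ← Category.assoc (x ≫ i), ← hz, Category.assoc z, hqk.w,
      ← Category.assoc z, ← Category.assoc x, comp_toUnit, comp_toUnit]
  obtain ⟨φ, hφ, hαφ, -⟩ := Groth.Agent.S3280.result k E N A Q α i hker (f ≫ q) hz
  haveI := hφ
  have h1 : (y ≫ f) ≫ q = 1 := by rw [Category.assoc, ← hαφ, ← Category.assoc, pt_comp_eq_one_of_proper φ]
  exact ⟨hqk.lift (y ≫ f) (toUnit _) (by rw [h1]; rfl), hqk.lift_fst _ _ _⟩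

open Classical in
/-- A chosen point over a given one. -/
noncomputable def liftBase {X Y : Over (Spec (CommRingCat.of k))} [GrpObj Y] (i : Y ⟶ X)
    (g : 𝟙_ (Over (Spec (CommRingCat.of k))) ⟶ X) : 𝟙_ (Over (Spec (CommRingCat.of k))) ⟶ Y :=
  if h : ∃ y, y ≫ i = g then h.choose else 1

theorem liftBase_spec {X Y : Over (Spec (CommRingCat.of k))} [GrpObj Y] (i : Y ⟶ X) (g : PT ⟶ X)
    (h : ∃ y, y ≫ i = g) : liftBase i g ≫ i = g := by
  rw [liftBase, dif_pos h]; exact h.choose_spec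

variable {G H : Over (Spec (CommRingCat.of k))} [GrpObj G] [GrpObj H]

/-- A surjective homomorphism maps the affine part onto the affine part. -/
theorem exists_parts_map [Smooth G.hom] [QuasiCompact G.hom] [ConnectedSpace G.left] [Smooth H.hom]
    [QuasiCompact H.hom] [ConnectedSpace H.left] (v : G ⟶ H) [IsMonHom v] [Surjective v.left] (P : Parts G)
    (Q : Parts H) : ∃ (f : P.N ⟶ Q.N) (_ : IsMonHom f), Surjective f.left ∧ f ≫ Q.i = P.i ≫ v := by
  haveI := AntiAffine.isSeparated_grp H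
  haveI := AntiAffine.isSeparated_grp G
  haveI := AntiAffine.isSeparated_grp P.Z
  haveI : Mono Q.i := mono_of_closedImmersion Q.i
  haveI : Mono P.i := mono_of_closedImmersion P.i
  obtain ⟨f, hf⟩ := Q.factor P.N (P.i ≫ v)
  haveI : IsMonHom f := AGFLib.BorelImage.isMonHom_of_comp f Q.i (P.i ≫ v) hf
  refine ⟨f, inferInstance, ?_, hf⟩
  haveI : IsAffineHom Q.N.hom := isAffineHom_of_isAffine Q.N.hom
  haveI : IsAffineHom P.N.hom := isAffineHom_of_isAffine P.N.hom
  haveI : QuasiCompact P.N.hom := inferInstance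
  haveI : QuasiCompact Q.N.hom := inferInstance
  haveI : IsReduced Q.N.left := isReduced_of_smooth_field Q.N.hom
  -- the part of the centre landing in the affine part
  let zp : (PT ⟶ P.Z) →* (PT ⟶ H) :=
    { toFun := fun x => (x ≫ P.z) ≫ v
      map_one' := by rw [MonObj.one_comp, MonObj.one_comp]
      map_mul' := fun a b => by rw [MonObj.mul_comp, MonObj.mul_comp] }
  have hΓ : PtsClosed (((rangePts Q.i).comap zp : Subgroup (PT ⟶ P.Z)) : Set (PT ⟶ P.Z)) := by
    have := (ptsClosed_range Q.i).preimage (P.z ≫ v)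
    obtain ⟨W, hW, hmem⟩ := this
    exact ⟨W, hW, fun g => by rw [← hmem g]; simp [zp, Category.assoc]⟩
  obtain ⟨W, hW, hmem⟩ := hΓ
  obtain ⟨D, _, d, hd, hdc, hDs, -, hDq, hr⟩ := exists_subgroup W hW
    ((hmem _).mp ((rangePts Q.i).comap zp).one_mem)
    (fun g h hg hh => (hmem _).mp (((rangePts Q.i).comap zp).mul_mem ((hmem g).mpr hg) ((hmem h).mpr hh)))
    (fun g hg => (hmem _).mp (((rangePts Q.i).comap zp).inv_mem ((hmem g).mpr hg)))
  haveI := hd; haveI := hdc; haveI := hDs; haveI := hDq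
  obtain ⟨E, _, r, hr₀, hrc, hEs, hEc, hEq, ⟨R, hR, hcov⟩, -⟩ := exists_idSub D
  haveI := hr₀; haveI := hrc; haveI := hEs; haveI := hEc; haveI := hEq
  haveI : IsReduced E.left := isReduced_of_smooth_field E.hom
  obtain ⟨g, hg⟩ := exists_lift_pts Q.i (r ≫ d ≫ P.z ≫ v) fun x => by
    obtain ⟨z, hz⟩ := (hmem ((x ≫ r) ≫ d)).mpr (hr ▸ ⟨cp (x ≫ r), rfl⟩)
    exact ⟨z, by rw [show z ≫ Q.i = _ from hz]; simp [zp, Category.assoc]⟩
  haveI : IsMonHom g := AGFLib.BorelImage.isMonHom_of_comp g Q.i (r ≫ d ≫ P.z ≫ v) hg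
  -- the image of the affine part
  obtain ⟨J, _, p, j, hp, hj, hpj, hjc, hpf, hps, hJl, hJq⟩ := ImageFactor.exists_image f
  haveI := hp; haveI := hj; haveI := hjc; haveI := hps; haveI := hJl; haveI := hpf
  haveI : Mono j := mono_of_closedImmersion j
  haveI : Smooth J.hom := smooth_of_quotient p
  haveI : IsReduced J.left := isReduced_of_smooth_field J.hom
  haveI := AntiAffine.isSeparated_grp J
  have hPN : ∀ x : PT ⟶ P.N, x ≫ f ∈ rangePts j := fun x =>
    ⟨x ≫ p, by show (x ≫ p) ≫ j = _; rw [Category.assoc, hpj]⟩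
  have hsplit : ∀ y : PT ⟶ Q.N, ∃ s ∈ (fun s : PT ⟶ D => s ≫ d) '' R, ∃ (x : PT ⟶ E) (n : PT ⟶ P.N),
      (s ≫ P.z) ≫ v * ((x ≫ g) ≫ Q.i) * ((n ≫ f) ≫ Q.i) = y ≫ Q.i := fun y => by
    obtain ⟨a, ha⟩ := exists_of_mem_range v (y ≫ Q.i) (v.left.surjective _)
    obtain ⟨z, n, rfl⟩ := P.decomp a
    rw [MonObj.mul_comp, Category.assoc n, ← hf, ← Category.assoc n] at ha
    have hz : z ∈ (rangePts Q.i).comap zp := by
      refine ⟨y * (n ≫ f)⁻¹, ?_⟩
      show (y * (n ≫ f)⁻¹) ≫ Q.i = (z ≫ P.z) ≫ v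
      rw [MonObj.mul_comp, GrpObj.inv_comp, ← ha, mul_inv_cancel_right]
    obtain ⟨w, hw⟩ := exists_of_mem_range d z (hr.symm ▸ (hmem z).mp hz)
    obtain ⟨s, hs, x, hx⟩ := hcov w
    refine ⟨_, ⟨s, hs, rfl⟩, x, n, ?_⟩
    have h1 : (x ≫ g) ≫ Q.i = ((s ≫ d) ≫ P.z ≫ v)⁻¹ * ((z ≫ P.z) ≫ v) := by
      rw [← hw, Category.assoc x g, hg, ← Category.assoc, show x ≫ r = s⁻¹ * w from hx, MonObj.mul_comp,
        GrpObj.inv_comp, Category.assoc, Category.assoc, Category.assoc]
    rw [h1, Category.assoc (s ≫ d), mul_inv_cancel_left, ha]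
  -- the image is normal
  have hcz : ∀ (s : PT ⟶ P.Z) (a : PT ⟶ H), Commute ((s ≫ P.z) ≫ v) a := fun s a => by
    obtain ⟨b, rfl⟩ := exists_of_mem_range v a (v.left.surjective _)
    rw [Commute, SemiconjBy, ← MonObj.mul_comp, ← MonObj.mul_comp, P.central s b]
  have hgc : ∀ (x : PT ⟶ E) (a : PT ⟶ Q.N), Commute (x ≫ g) a := fun x a => (cancel_mono Q.i).mp (by
    rw [MonObj.mul_comp, MonObj.mul_comp, Category.assoc x g, hg]
    have := hcz ((x ≫ r) ≫ d) (a ≫ Q.i)
    simp only [Category.assoc] at this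
    exact this.eq)
  have hnorm : AlgGrp.IsNormalHom j := by
    refine SolvGrp.isNormalHom_of_pts j ⟨?_⟩
    rintro _ ⟨t, rfl⟩ y
    obtain ⟨n', rfl⟩ := exists_of_mem_range p t (p.left.surjective _)
    obtain ⟨_, ⟨s, -, rfl⟩, x, n, hy⟩ := hsplit y
    refine ⟨(n * n' * n⁻¹) ≫ p, ?_⟩
    show ((n * n' * n⁻¹) ≫ p) ≫ j = _
    rw [← cancel_mono Q.i, Category.assoc (_ ≫ p), Category.assoc, ← Category.assoc p, hpj]
    simp only [MonObj.mul_comp, GrpObj.inv_comp]
    rw [← hy, show (n' ≫ p) ≫ j = n' ≫ f by rw [Category.assoc, hpj]]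
    have hc1 := hcz (s ≫ d)
    have hc2 : Commute ((x ≫ g) ≫ Q.i) ((n ≫ f) ≫ Q.i * ((n' ≫ f) ≫ Q.i) * ((n ≫ f) ≫ Q.i)⁻¹) := by
      have := hgc x (n ≫ f * (n' ≫ f) * (n ≫ f)⁻¹)
      rw [Commute, SemiconjBy] at this ⊢
      simp only [← MonObj.mul_comp, ← GrpObj.inv_comp] at this ⊢
      rw [this]
    simp only [Category.assoc] at hc1 hc2 ⊢
    set A := n ≫ f ≫ Q.i
    set B := n' ≫ f ≫ Q.i
    set X := x ≫ g ≫ Q.i
    set Z := s ≫ d ≫ P.z ≫ v
    calc A * B * A⁻¹ = A * B * A⁻¹ * (X * X⁻¹) := by group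
      _ = X * (A * B * A⁻¹) * X⁻¹ := by rw [← _root_.mul_assoc, hc2.eq]
      _ = X * (A * B * A⁻¹) * X⁻¹ * (Z * Z⁻¹) := by group
      _ = Z * (X * (A * B * A⁻¹) * X⁻¹) * Z⁻¹ := by rw [← _root_.mul_assoc, (hc1 _).eq]
      _ = _ := by group
  have hEJ : ∀ x : PT ⟶ E, x ≫ g ∈ rangePts j := fun x => by
    refine comp_mem_of_affine_part g j hnorm (fun U _ u _ _ _ _ _ w => ?_) x
    haveI : Mono P.z := mono_of_closedImmersion P.z
    obtain ⟨a, ha⟩ := P.factor U (u ≫ r ≫ d ≫ P.z)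
    refine ⟨w ≫ a ≫ p, ?_⟩
    show (w ≫ a ≫ p) ≫ j = _
    rw [← cancel_mono Q.i]
    simp only [Category.assoc, reassoc_of% hpj, hf, hg, reassoc_of% ha]
  have htop : Function.Surjective fun x : PT ⟶ J => x ≫ j := by
    have hcov : ∀ y : PT ⟶ Q.N, ∃ t ∈ (fun s => (liftBase Q.i ((s ≫ P.z) ≫ v))) '' ((fun s : PT ⟶ D => s ≫ d) '' R),
        t⁻¹ * (y ≫ 𝟙 Q.N) ∈ rangePts j := fun y => by
      obtain ⟨s, hs, x, n, hy⟩ := hsplit y
      refine ⟨_, ⟨s, hs, rfl⟩, ?_⟩
      have hS : liftBase Q.i ((s ≫ P.z) ≫ v) ≫ Q.i = (s ≫ P.z) ≫ v := liftBase_spec _ _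
        ⟨y * (n ≫ f)⁻¹ * (x ≫ g)⁻¹, by
          rw [MonObj.mul_comp, MonObj.mul_comp, GrpObj.inv_comp, GrpObj.inv_comp, ← hy]; group⟩
      have : (liftBase Q.i ((s ≫ P.z) ≫ v))⁻¹ * (y ≫ 𝟙 Q.N) = (x ≫ g) * (n ≫ f) := by
        rw [Category.comp_id, inv_mul_eq_iff_eq_mul, ← cancel_mono Q.i, MonObj.mul_comp, MonObj.mul_comp, hS, ← hy,
          _root_.mul_assoc]
      rw [this]
      exact mul_mem (hEJ x) (hPN n)
    obtain ⟨b, -, hb⟩ := exists_factor_of_cosets (𝟙 Q.N) j _ ((hR.image _).image _) hcov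
    intro y
    exact ⟨y ≫ b, by simp [Category.assoc, hb]⟩
  haveI : Surjective j.left := ⟨fun z => by
    have h1 : Set.range j.left = Set.univ := eq_univ_of_forall_cp j.left.isClosedEmbedding.isClosed_range fun y => by
      obtain ⟨x, hx⟩ := htop y
      exact ⟨cp x, by rw [← cp_comp]; exact congrArg cp hx⟩
    exact h1.ge (Set.mem_univ z)⟩
  rw [← hpj]
  exact inferInstanceAs (Surjective (p.left ≫ j.left))

end Groth.Agent.NonAffine

namespace Groth.Agent.NonAffine

open GrpSchLib AGFLib AGFLib.Gen AGFLib.BorelExist SolvGrp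

variable {k : Type u} [Field k] [IsAlgClosed k] {G H : Over (Spec (CommRingCat.of k))} [GrpObj G] [GrpObj H]

/-- The image of a maximal torus is a maximal torus. -/
theorem isMaxTorus_image [Smooth G.hom] [QuasiCompact G.hom] [ConnectedSpace G.left] [Smooth H.hom]
    [QuasiCompact H.hom] [ConnectedSpace H.left] (v : G ⟶ H) [IsMonHom v] [Surjective v.left]
    {T : Over (Spec (CommRingCat.of k))} [GrpObj T] {i : T ⟶ G} (hT : AGF.IsMaxTorus i)
    {M : Over (Spec (CommRingCat.of k))} [GrpObj M] (m : M ⟶ H) [IsMonHom m] [IsClosedImmersion m.left]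
    (p : T ⟶ M) [Flat p.left] [Surjective p.left] (hp : p ≫ m = i ≫ v) : AGF.IsMaxTorus m := by
  haveI := AntiAffine.isSeparated_grp G
  haveI := AntiAffine.isSeparated_grp H
  obtain ⟨P⟩ := exists_parts G
  obtain ⟨Q⟩ := exists_parts H
  haveI : Mono Q.i := mono_of_closedImmersion Q.i
  haveI : Mono m := mono_of_closedImmersion m
  haveI := hT.1
  haveI := hT.2.1
  obtain ⟨C, _, c, hC, hcl, hCs⟩ := MaxTorCent.exists_centralizer i (TorusQI.isMultTypeFT_of_isTorus hT.2.2.1)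
  haveI := hC.1; haveI := hcl; haveI := hCs
  haveI : QuasiCompact C.hom := by rw [← Over.w c]; infer_instance
  obtain ⟨N, _, q, n, _, hn, hqn, hnc, hqf, hqs, -, -⟩ := ImageFactor.exists_image (c ≫ v)
  haveI := hn; haveI := hnc; haveI := hqf; haveI := hqs
  obtain ⟨hM, -⟩ := image_centralizer v hT hC m p hp n q hqn
  obtain ⟨g, hg, hgs, hgi⟩ := exists_parts_map v P Q
  haveI := hg; haveI := hgs
  obtain ⟨f, hf, hfi⟩ := isMaxTorus_factor' P hT
  obtain ⟨m₀, hm₀, hm₀i⟩ := exists_torus_factor Q m hM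
  haveI := hm₀
  haveI : Mono (m₀ ≫ Q.i) := hm₀i.symm ▸ ‹Mono m›
  haveI : Mono m₀ := mono_of_mono m₀ Q.i
  haveI : IsClosedImmersion m₀.left := by
    haveI : IsClosedImmersion (m₀.left ≫ Q.i.left) := by rw [← Over.comp_left, hm₀i]; infer_instance
    exact IsClosedImmersion.of_comp m₀.left Q.i.left
  obtain ⟨-, hMs, -, -⟩ := torus_props hM
  haveI := hMs
  haveI : IsReduced M.left := isReduced_of_smooth_field M.hom
  have hmax : AGF.IsMaxTorus m₀ := Groth.Agent.S3927.result k P.N Q.N g T f hf M m₀ inferInstance p (by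
    rw [← cancel_mono Q.i, Category.assoc, hm₀i, hp, Category.assoc, hgi, ← Category.assoc, hfi])
  refine ⟨inferInstance, inferInstance, hM, fun T' _ j _ _ l hT' hl => ?_⟩
  obtain ⟨j', hj', hjj⟩ := exists_torus_factor Q j hT'
  haveI := hj'
  haveI : Mono (j' ≫ Q.i) := hjj.symm ▸ ‹Mono j›
  haveI : Mono j' := mono_of_mono j' Q.i
  exact hmax.2.2.2 T' j' l hT' (by rw [← cancel_mono Q.i, Category.assoc, hjj, hl, hm₀i])

/-- A smooth connected group has a maximal torus. -/
theorem exists_maxTorus [Smooth G.hom] [QuasiCompact G.hom] [ConnectedSpace G.left] :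
    ∃ (T : Over (Spec (CommRingCat.of k))) (_ : GrpObj T) (i : T ⟶ G), AGF.IsMaxTorus i := by
  haveI := AntiAffine.isSeparated_grp G
  obtain ⟨P⟩ := exists_parts G
  haveI : Mono P.i := mono_of_closedImmersion P.i
  obtain ⟨B, _, iB, X, a, o, hB, -, -⟩ := AGFLib.Borel.exists_borel P.N
  haveI := hB.1
  haveI := hB.2.1
  obtain ⟨T, _, iT, hiT, hmT, hmono, hT, hA, -⟩ := exists_borelTorus iB hB
  haveI := hiT
  haveI : Mono iT := mono_of_mono iT iB
  have hmax : AGF.IsMaxTorus (iT ≫ iB) := isMaxTorus_of_borel iB (iT ≫ iB) hB hT (rangePts_comp iB iT) (by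
    rintro _ ⟨c, rfl⟩
    haveI := hB.2.2.1
    obtain ⟨_, ⟨x, rfl⟩, hx⟩ := hA c
    refine ⟨_, ⟨x, rfl⟩, ?_⟩
    haveI : LocallyOfFiniteType B.hom := inferInstance
    haveI : IsAffine B.left := isAffine_of_isAffineHom iB.left
    haveI : IsReduced B.left := isReduced_of_smooth_field B.hom
    haveI : IsReduced P.N.left := isReduced_of_smooth_field P.N.hom
    show IsUnipPt ((x ≫ iT ≫ iB)⁻¹ * (c ≫ iB))
    rw [← Category.assoc, ← GrpObj.inv_comp, ← MonObj.mul_comp]
    exact (map_isSsPt_isUnipPt iB _).2 hx)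
  haveI := hmax.1
  haveI := hmax.2.1
  refine ⟨T, inferInstance, (iT ≫ iB) ≫ P.i, inferInstance, inferInstance, hT, fun T' _ j _ _ l hT' hl => ?_⟩
  obtain ⟨j', hj', hjj⟩ := exists_torus_factor P j hT'
  haveI := hj'
  haveI : Mono (j' ≫ P.i) := hjj.symm ▸ ‹Mono j›
  haveI : Mono j' := mono_of_mono j' P.i
  exact hmax.2.2.2 T' j' l hT' (by rw [← cancel_mono P.i, Category.assoc, hjj, hl])

end Groth.Agent.NonAffine

namespace Groth.Agent.NonAffine

open GrpSchLib AGFLib AGFLib.Gen AGFLib.BorelExist SolvGrp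

variable {k : Type u} [Field k] [IsAlgClosed k] {G H : Over (Spec (CommRingCat.of k))} [GrpObj G] [GrpObj H]

local notation "PT" => 𝟙_ (Over (Spec (CommRingCat.of k)))

/-- The image of a Cartan subgroup is a Cartan subgroup. -/
theorem isCartanOver_image [Smooth G.hom] [QuasiCompact G.hom] [ConnectedSpace G.left] [Smooth H.hom]
    [QuasiCompact H.hom] [ConnectedSpace H.left] (v : G ⟶ H) [IsMonHom v] [Surjective v.left]
    {C : Over (Spec (CommRingCat.of k))} [GrpObj C] {c : C ⟶ G} (hc : SGA3x.IsCartanOver k c)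
    {C' : Over (Spec (CommRingCat.of k))} [GrpObj C'] (c' : C' ⟶ H) [IsMonHom c'] [Mono c']
    (w : C ⟶ C') [Flat w.left] [Surjective w.left] (hw : w ≫ c' = c ≫ v) : SGA3x.IsCartanOver k c' := by
  obtain ⟨-, -, T, _, i, hT, hC⟩ := hc
  haveI := hT.1
  have hTm := SolvGrp.isMaxTorus_of_isMaximalTorus hT
  obtain ⟨haT, hsT, -, -⟩ := torus_props hT.2.2.1
  haveI := haT; haveI := hsT
  haveI : QuasiCompact T.hom := inferInstance
  obtain ⟨M, _, p, m, hp, hm, hpm, hmc, hpf, hps, -, -⟩ := ImageFactor.exists_image (i ≫ v)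
  haveI := hm; haveI := hmc; haveI := hpf; haveI := hps
  haveI : Mono m := mono_of_closedImmersion m
  exact ⟨inferInstance, inferInstance, M, inferInstance, m,
    isMaximalTorus_of_isMaxTorus (isMaxTorus_image v hTm m p hpm), image_centralizer' v hTm hC m p hpm c' w hw⟩

/-- Every Cartan subgroup of the image comes from one of the source. -/
theorem exists_cartan_over [Smooth G.hom] [QuasiCompact G.hom] [ConnectedSpace G.left] [Smooth H.hom]
    [QuasiCompact H.hom] [ConnectedSpace H.left] (v : G ⟶ H) [IsMonHom v] [Surjective v.left]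
    {C' : Over (Spec (CommRingCat.of k))} [GrpObj C'] {c' : C' ⟶ H} (hc' : SGA3x.IsCartanOver k c') :
    ∃ (C : Over (Spec (CommRingCat.of k))) (_ : GrpObj C) (c : C ⟶ G) (w : C ⟶ C'), SGA3x.IsCartanOver k c ∧
      IsMonHom w ∧ Flat w.left ∧ Surjective w.left ∧ w ≫ c' = c ≫ v := by
  haveI := AntiAffine.isSeparated_grp G
  haveI := AntiAffine.isSeparated_grp H
  obtain ⟨hc1, hc2, U, _, u, hU, hC'⟩ := hc'
  haveI := hc1; haveI := hc2
  obtain ⟨T₀, _, i₀, hT₀⟩ := exists_maxTorus (G := G)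
  haveI := hT₀.1; haveI := hT₀.2.1
  obtain ⟨haT, hsT, -, -⟩ := torus_props hT₀.2.2.1
  haveI := haT; haveI := hsT
  haveI : QuasiCompact T₀.hom := inferInstance
  obtain ⟨M, _, p, m, hp, hm, hpm, hmc, hpf, hps, -, -⟩ := ImageFactor.exists_image (i₀ ≫ v)
  haveI := hm; haveI := hmc; haveI := hpf; haveI := hps
  obtain ⟨h, φ, hφ⟩ := maxTori_conj (isMaxTorus_image v hT₀ m p hpm) (SolvGrp.isMaxTorus_of_isMaximalTorus hU)
  obtain ⟨g, rfl⟩ := exists_of_mem_range v h (v.left.surjective _)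
  haveI : IsMonHom (AGF.conjBy g i₀) := by rw [AGFLib.Borel.conjBy_eq]; infer_instance
  haveI : Mono (AGF.conjBy g i₀) := by
    rw [AGFLib.Borel.conjBy_eq]
    haveI : Mono (AGFLib.Borel.conjM g) := mono_of_closedImmersion _
    exact mono_comp i₀ _
  have hT : AGF.IsMaxTorus (AGF.conjBy g i₀) := isMaxTorus_of_conj hT₀.2.2.1 hT₀ g⁻¹ (Iso.refl T₀) (by
    rw [Iso.refl_hom, Category.id_comp, AGFLib.Borel.conjBy_eq, AGFLib.Borel.conjBy_eq, Category.assoc,
      AGFLib.Borel.conjM_comp, inv_mul_cancel, AGFLib.Borel.conjM_one, Category.comp_id])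
  haveI := hU.2.1
  haveI : IsIso φ.hom.left := ((Over.forget _).mapIso φ).isIso_hom
  haveI : Flat (p ≫ φ.hom).left := inferInstanceAs (Flat (p.left ≫ φ.hom.left))
  haveI : Surjective (p ≫ φ.hom).left := inferInstanceAs (Surjective (p.left ≫ φ.hom.left))
  have hwT : (p ≫ φ.hom) ≫ u = AGF.conjBy g i₀ ≫ v := by
    rw [Category.assoc, ← hφ, MonObj.comp_mul, MonObj.comp_mul, GrpObj.comp_inv, ← Category.assoc, comp_toUnit,
      hpm, AGFLib.BorelImage.conjBy_comp]
  obtain ⟨C, _, c, hC, hcl, hCs⟩ := MaxTorCent.exists_centralizer (AGF.conjBy g i₀)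
    (TorusQI.isMultTypeFT_of_isTorus hT₀.2.2.1)
  haveI := hC.1; haveI := hC.2.1; haveI := hcl; haveI := hCs
  haveI : QuasiCompact C.hom := by rw [← Over.w c]; infer_instance
  obtain ⟨N, _, q, n, hq, hn, hqn, hnc, hqf, hqs, -, -⟩ := ImageFactor.exists_image (c ≫ v)
  haveI := hq; haveI := hn; haveI := hnc; haveI := hqf; haveI := hqs
  haveI : Mono n := mono_of_closedImmersion n
  obtain ⟨e, he⟩ := SolvGrp.centralizer_unique (image_centralizer' v hT hC u (p ≫ φ.hom) hwT n q hqn) hC'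
  haveI : IsIso e.hom.left := ((Over.forget _).mapIso e).isIso_hom
  have hw : (q ≫ e.hom) ≫ c' = c ≫ v := by rw [Category.assoc, he, hqn]
  exact ⟨C, inferInstance, c, q ≫ e.hom, ⟨inferInstance, inferInstance, T₀, inferInstance, AGF.conjBy g i₀,
    isMaximalTorus_of_isMaxTorus hT, hC⟩, AGFLib.BorelImage.isMonHom_of_comp _ c' (c ≫ v) hw,
    inferInstanceAs (Flat (q.left ≫ e.hom.left)), inferInstanceAs (Surjective (q.left ≫ e.hom.left)), hw⟩

end Groth.Agent.NonAffine
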