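import Groth.Agent.NonAffine.Tori
import Groth.Agent.SolvGrp.Cent
import Groth.Agent.GrpSchLib.ConjCentral
import Groth.Agent.S5442

/-! Centralisers of tori in smooth connected groups are smooth and connected. -/

set_option backward.isDefEq.respectTransparency false
set_option backward.isDefEq.respectTransparency.types false
set_option linter.style.haveILetI false
set_option autoImplicit false

universe u

open CategoryTheory Limits MonoidalCategory CartesianMonoidalCategory MonObj AlgebraicGeometry

namespace Groth.Agent.NonAffine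

open GrpSchLib AGFLib AGFLib.Gen AGFLib.BorelExist

/-- A centraliser of a torus in a smooth separated group is closed and smooth. -/
theorem centralizer_closed_smooth {S : Scheme.{u}} {G T C : Over S} [GrpObj G] [GrpObj T] [GrpObj C]
    [IsSeparated G.hom] [Smooth G.hom] (iT : T ⟶ G) [IsMonHom iT] (hT : Red.IsTorus T) {c : C ⟶ G}
    (hc : Red.IsCentralizerOf iT c) : IsClosedImmersion c.left ∧ Smooth C.hom := by
  have hact : ∀ {X : Over S} (h : X ⟶ T) (g : X ⟶ G),
      lift h g ≫ (ConjCentral.conjAction iT).act = (h ≫ iT) * g * (h ≫ iT)⁻¹ := fun h g => by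
    show lift h g ≫ ((fst T G ≫ iT) * snd T G * (fst T G ≫ iT)⁻¹) = _
    simp only [MonObj.comp_mul, GrpObj.comp_inv, lift_fst_assoc, lift_snd]
  obtain ⟨Z, _, z, hz, hzc, hzs, hZ⟩ := Groth.Agent.S5442.result S T G (TorusQI.isMultTypeFT_of_isTorus hT)
    (ConjCentral.conjAction iT) fun X h g g' => by rw [hact, hact, hact]; group
  haveI := hz; haveI := hzc
  haveI : Mono z := (Over.forget _).mono_of_mono_map (inferInstanceAs (Mono z.left))
  have hcz : Red.IsCentralizerOf iT z := ⟨hz, inferInstance, fun X g => by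
    rw [hZ X g]
    refine forall_congr' fun X' => forall_congr' fun x => forall_congr' fun h => ?_
    rw [hact, mul_inv_eq_iff_eq_mul, eq_comm]⟩
  obtain ⟨e, he⟩ := SolvGrp.centralizer_unique hc hcz
  haveI : IsIso e.hom.left := ((Over.forget _).mapIso e).isIso_hom
  haveI : IsClosedImmersion c.left := by
    rw [← he]; exact inferInstanceAs (IsClosedImmersion (e.hom.left ≫ z.left))
  exact ⟨inferInstance, by haveI := hzs; rw [← Over.w e.hom]; infer_instance⟩

variable {k : Type u} [Field k] [IsAlgClosed k] {G : Over (Spec (CommRingCat.of k))} [GrpObj G]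

local notation "PT" => 𝟙_ (Over (Spec (CommRingCat.of k)))

/-- A product of connected groups over an algebraically closed field is connected. -/
theorem connectedSpace_tensor {A B : Over (Spec (CommRingCat.of k))} [GrpObj A] [GrpObj B] [Smooth A.hom] [Smooth B.hom]
    [QuasiCompact A.hom] [QuasiCompact B.hom] [ConnectedSpace A.left] [ConnectedSpace B.left] :
    ConnectedSpace (A ⊗ B).left := by
  haveI := GrpSchLib.Adjoint.geometricallyIrreducible (G := A)
  haveI := GrpSchLib.Adjoint.geometricallyIrreducible (G := B)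
  haveI : IrreducibleSpace B.left := Groth.Agent.S0348.result k B
  haveI : UniversallyOpen A.hom := inferInstance
  haveI : IrreducibleSpace (A ⊗ B).left :=
    GeometricallyIrreducible.irreducibleSpace (f := pullback.snd A.hom B.hom) (pullback.snd A.hom B.hom).isOpenMap
  infer_instance

/-- The centraliser of a torus in a smooth connected group is smooth and connected. -/
theorem smooth_connected_centralizer [Smooth G.hom] [QuasiCompact G.hom] [ConnectedSpace G.left]
    {T C : Over (Spec (CommRingCat.of k))} [GrpObj T] [GrpObj C] (j : T ⟶ G) [IsMonHom j] (hT : Red.IsTorus T)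
    {c : C ⟶ G} (hC : Red.IsCentralizerOf j c) : Smooth C.hom ∧ ConnectedSpace C.left := by
  haveI := AntiAffine.isSeparated_grp G
  obtain ⟨hcl, hsm⟩ := centralizer_closed_smooth j hT hC
  haveI := hcl; haveI := hsm
  refine ⟨hsm, ?_⟩
  haveI := hC.1
  haveI := hC.2.1
  obtain ⟨P⟩ := exists_parts G
  haveI : Mono P.i := mono_of_closedImmersion P.i
  obtain ⟨f, hf, hfj⟩ := exists_torus_factor P j hT
  haveI := hf
  haveI : IsAffineHom P.N.hom := isAffineHom_of_isAffine P.N.hom
  obtain ⟨D, _, d, hd, hdc, hds⟩ := Groth.Agent.S5247.result T P.N (TorusQI.isMultTypeFT_of_isTorus hT) inferInstance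
    inferInstance f
  haveI := hd.1; haveI := hdc; haveI := hds
  haveI : ConnectedSpace D.left := SolvGrp.connectedSpace_centralizer hT hd
  haveI : QuasiCompact D.hom := by rw [← Over.w d]; infer_instance
  haveI := connectedSpace_tensor (A := P.Z) (B := D)
  let u : P.Z ⊗ D ⟶ G := (fst P.Z D ≫ P.z) * (snd P.Z D ≫ d ≫ P.i)
  have hu : ∀ {X' : Over (Spec (CommRingCat.of k))} (y : X' ⟶ P.Z ⊗ D) (h : X' ⟶ T),
      (y ≫ u) * (h ≫ j) = (h ≫ j) * (y ≫ u) := fun y h => by
    have hc' : ((y ≫ snd P.Z D) ≫ d) * (h ≫ f) = (h ≫ f) * ((y ≫ snd P.Z D) ≫ d) := by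
      simpa using (hd.2.2 _ ((y ≫ snd P.Z D) ≫ d)).mp ⟨_, rfl⟩ _ (𝟙 _) h
    have hc'' := congrArg (· ≫ P.i) hc'
    simp only [MonObj.mul_comp, Category.assoc] at hc''
    have hz := P.central (y ≫ fst P.Z D) (h ≫ f ≫ P.i)
    simp only [Category.assoc] at hz
    rw [← hfj, MonObj.comp_mul, _root_.mul_assoc, hc'', ← _root_.mul_assoc, hz, _root_.mul_assoc]
  obtain ⟨Φ, hΦ⟩ := (hC.2.2 _ u).mpr fun X' x h => hu x h
  have hdense : closure (Set.range Φ.left) = Set.univ := by
    haveI : LocallyOfFiniteType C.hom := inferInstance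
    refine eq_univ_of_forall_cp isClosed_closure fun g => subset_closure ?_
    obtain ⟨x, n, hxn⟩ := P.decomp (g ≫ c)
    obtain ⟨m, hm⟩ := (hd.2.2 PT n).mpr fun X' t h => by
      rw [← cancel_mono P.i, MonObj.mul_comp, MonObj.mul_comp, Category.assoc h f P.i, hfj, Category.assoc t n P.i]
      have h1 : (t ≫ g ≫ c) * (h ≫ j) = (h ≫ j) * (t ≫ g ≫ c) := (hC.2.2 PT (g ≫ c)).mp ⟨g, rfl⟩ X' t h
      rw [← hxn, MonObj.comp_mul] at h1
      have h2 : (t ≫ x ≫ P.z) * (h ≫ j) = (h ≫ j) * (t ≫ x ≫ P.z) := by
        simpa only [Category.assoc] using P.central (t ≫ x) (h ≫ j)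
      rw [_root_.mul_assoc, ← _root_.mul_assoc (h ≫ j), ← h2, _root_.mul_assoc] at h1
      exact mul_left_cancel h1
    refine ⟨cp (lift x m), ?_⟩
    rw [← cp_comp]
    congr 1
    rw [← cancel_mono c, Category.assoc, hΦ, ← hxn]
    simp only [u, MonObj.comp_mul, lift_fst_assoc, lift_snd_assoc, ← hm, Category.assoc]
  have h1 : _root_.IsConnected (Set.range Φ.left) := isConnected_range Φ.left.continuous
  exact connectedSpace_iff_univ.mpr (hdense ▸ h1.closure)

end Groth.Agent.NonAffine
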