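import Groth.Agent.S11398
import Groth.Agent.S11400
import Groth.Agent.SolvGrp.OverClosed
import Groth.Agent.SolvGrp.Sub
import Groth.Agent.AGFLib.QuasiComp.Albanese

/-! A smooth connected group over an algebraically closed field is a central connected subgroup times its affine part. -/

set_option backward.isDefEq.respectTransparency false
set_option backward.isDefEq.respectTransparency.types false
set_option linter.style.haveILetI false
set_option autoImplicit false

universe u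

open CategoryTheory Limits MonoidalCategory CartesianMonoidalCategory MonObj AlgebraicGeometry

namespace Groth.Agent.NonAffine

open GrpSchLib AGFLib AGFLib.Gen AGFLib.BorelExist

variable {k : Type u} [Field k] [IsAlgClosed k]

local notation "PT" => 𝟙_ (Over (Spec (CommRingCat.of k)))

/-- The central part and the affine part of a smooth connected group. -/
structure Parts (G : Over (Spec (CommRingCat.of k))) [GrpObj G] where
  /-- The affine part. -/
  N : Over (Spec (CommRingCat.of k))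
  /-- A central subgroup. -/
  Z : Over (Spec (CommRingCat.of k))
  [grpN : GrpObj N]
  [grpZ : GrpObj Z]
  /-- The inclusion of the affine part. -/
  i : N ⟶ G
  /-- The inclusion of the central subgroup. -/
  z : Z ⟶ G
  [hom_i : IsMonHom i]
  [hom_z : IsMonHom z]
  [closed_i : IsClosedImmersion i.left]
  [closed_z : IsClosedImmersion z.left]
  [smoothN : Smooth N.hom]
  [smoothZ : Smooth Z.hom]
  [qcZ : QuasiCompact Z.hom]
  [connN : ConnectedSpace N.left]
  [connZ : ConnectedSpace Z.left]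
  [affN : IsAffine N.left]
  normal : AlgGrp.IsNormalHom i
  central : ∀ {T : Over (Spec (CommRingCat.of k))} (x : T ⟶ Z) (g : T ⟶ G), (x ≫ z) * g = g * (x ≫ z)
  decomp : ∀ g : PT ⟶ G, ∃ (x : PT ⟶ Z) (n : PT ⟶ N), (x ≫ z) * (n ≫ i) = g
  factor : ∀ (H : Over (Spec (CommRingCat.of k))) [GrpObj H] (h : H ⟶ G) [IsMonHom h] [Smooth H.hom]
    [ConnectedSpace H.left] [IsAffine H.left], ∃ f : H ⟶ N, f ≫ i = h

attribute [instance] Parts.grpN Parts.grpZ Parts.hom_i Parts.hom_z Parts.closed_i Parts.closed_z Parts.smoothN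
  Parts.smoothZ Parts.qcZ Parts.connN Parts.connZ Parts.affN

/-- The decomposition exists. -/
theorem exists_parts (G : Over (Spec (CommRingCat.of k))) [GrpObj G] [Smooth G.hom] [QuasiCompact G.hom]
    [ConnectedSpace G.left] : Nonempty (Parts G) := by
  haveI := AntiAffine.isSeparated_grp G
  obtain ⟨N, _, i, ⟨hi, hic, hiS, hiC, hiA, hiN⟩, hmax, -⟩ := Groth.Agent.S11398.result k G
  haveI := hi; haveI := hic; haveI := hiS; haveI := hiC; haveI := hiA
  obtain ⟨A, _, α, hα, hAp, hAs, hAc, hαs, hαf, hker⟩ := AGFLib.QuasiComp.exists_abelian_quot i hiN hmax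
  haveI := hα; haveI := hAp; haveI := hAs; haveI := hAc; haveI := hαs
  obtain ⟨Z₀, _, z₀, hz₀, hz₀c, hz₀cen, -⟩ := Groth.Agent.S3027.result k G
  haveI := hz₀; haveI := hz₀c
  haveI : Mono z₀ := mono_of_closedImmersion z₀
  haveI : LocallyOfFiniteType Z₀.hom := by rw [← Over.w z₀]; infer_instance
  haveI : QuasiCompact Z₀.hom := by rw [← Over.w z₀]; infer_instance
  obtain ⟨hsurj, -⟩ := Groth.Agent.S11400.result k G N i hiN hmax Z₀ z₀ ⟨hz₀, inferInstance, fun X g => by
    rw [hz₀cen X g]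
    simp only [Category.comp_id]⟩
  haveI := hsurj
  obtain ⟨Z, _, r, hr, hrc, hrs, hrC, hrq, R, hR, hRcov⟩ := exists_idComp (P := Z₀)
  haveI := hr; haveI := hrc; haveI := hrs; haveI := hrC; haveI := hrq
  haveI : IsClosedImmersion (r ≫ z₀).left := inferInstanceAs (IsClosedImmersion (r.left ≫ z₀.left))
  have hcen : ∀ {T : Over (Spec (CommRingCat.of k))} (x : T ⟶ Z₀) (g : T ⟶ G),
      (x ≫ z₀) * g = g * (x ≫ z₀) := fun x g => by
    simpa using (hz₀cen _ (x ≫ z₀)).mp ⟨x, rfl⟩ _ (𝟙 _) g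
  have hαN : ∀ n : PT ⟶ N, (n ≫ i) ≫ α = 1 := fun n => by
    rw [Category.assoc, hker.w, ← Category.assoc, comp_toUnit, toUnit_unique (toUnit _) (𝟙 _)]
    rfl
  let αp : (PT ⟶ G) →* (PT ⟶ A) :=
    { toFun := fun g => g ≫ α, map_one' := MonObj.one_comp α, map_mul' := fun a b => MonObj.mul_comp a b α }
  let Γ : Subgroup (PT ⟶ G) := (SolvGrp.rangePts ((r ≫ z₀) ≫ α)).comap αp
  have hΓ : SolvGrp.PtsClosed (Γ : Set (PT ⟶ G)) :=
    (SolvGrp.ptsClosed_range ((r ≫ z₀) ≫ α)).preimage α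
  have htop : Γ = ⊤ := by
    refine SolvGrp.eq_top_of_finite Γ hΓ ((fun s => s ≫ z₀) '' R) (hR.image _) fun g => ?_
    haveI : LocallyOfFiniteType (Z₀ ⊗ N).hom :=
      inferInstanceAs (LocallyOfFiniteType (pullback.fst Z₀.hom N.hom ≫ Z₀.hom))
    obtain ⟨w, hw⟩ := exists_of_mem_range ((z₀ ⊗ₘ i) ≫ μ[G]) g (((z₀ ⊗ₘ i) ≫ μ[G]).left.surjective (cp g))
    obtain ⟨s, hs, q, hq⟩ := hRcov (w ≫ fst Z₀ N)
    refine ⟨s ≫ z₀, ⟨s, hs, rfl⟩, ⟨q, ?_⟩⟩
    have hw' : ((w ≫ fst Z₀ N) ≫ z₀) * ((w ≫ snd Z₀ N) ≫ i) = g := by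
      rw [Category.assoc, Category.assoc, ← MonObj.comp_mul, Hom.mul_def, lift_fst_comp_snd_comp]
      exact hw
    show q ≫ (r ≫ z₀) ≫ α = ((s ≫ z₀)⁻¹ * g) ≫ α
    rw [← hw', ← hq, MonObj.mul_comp s (q ≫ r) z₀, _root_.mul_assoc, inv_mul_cancel_left, MonObj.mul_comp _ _ α,
      hαN, _root_.mul_one]
    simp only [Category.assoc]
  refine ⟨{ N := N, Z := Z, i := i, z := r ≫ z₀, normal := hiN,
            central := fun x g => by rw [← Category.assoc]; exact hcen (x ≫ r) g,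
            decomp := fun g => ?_, factor := fun H _ h _ _ _ _ => ?_ }⟩
  · obtain ⟨q, hq⟩ := (htop ▸ Subgroup.mem_top g : g ∈ Γ)
    have hq' : (q ≫ r ≫ z₀) ≫ α = g ≫ α := by rw [Category.assoc]; simpa only [Category.assoc, αp, MonoidHom.coe_mk, OneHom.coe_mk] using hq
    exact ⟨q, hker.lift ((q ≫ r ≫ z₀)⁻¹ * g) (toUnit _)
      (by rw [MonObj.mul_comp, GrpObj.inv_comp, hq', inv_mul_cancel]; rfl),
      by rw [hker.lift_fst, mul_inv_cancel_left]⟩
  · exact ⟨hker.lift h (toUnit _) (by rw [AGFLib.QuasiComp.hom_eq_one (h ≫ α)]; rfl), hker.lift_fst _ _ _⟩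

end Groth.Agent.NonAffine
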