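import Groth.Agent.NonAffine.IdComp
import Groth.Agent.SolvGrp.BorelCent
import Groth.Agent.S3910
import Groth.Agent.S3900
import Groth.Agent.GrpSchLib.ImageFactor

/-! Borel subgroups of smooth connected groups which need not be affine. -/

set_option backward.isDefEq.respectTransparency false
set_option backward.isDefEq.respectTransparency.types false
set_option linter.style.haveILetI false
set_option autoImplicit false

universe u

open CategoryTheory Limits MonoidalCategory CartesianMonoidalCategory MonObj AlgebraicGeometry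
open scoped commutatorElement

namespace Groth.Agent.NonAffine

open GrpSchLib AGFLib AGFLib.Gen AGFLib.BorelExist SolvGrp

variable {k : Type u} [Field k] [IsAlgClosed k] {G : Over (Spec (CommRingCat.of k))} [GrpObj G]

local notation "PT" => 𝟙_ (Over (Spec (CommRingCat.of k)))

/-- Central factors do not change commutators. -/
theorem commutator_central {Γ : Type*} [Group Γ] {A A' : Γ} (h1 : ∀ g, Commute A g) (h2 : ∀ g, Commute A' g) (Y Y' : Γ) :
    Y * Y' * Y⁻¹ * Y'⁻¹ = A * Y * (A' * Y') * (A * Y)⁻¹ * (A' * Y')⁻¹ := by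
  have hC : ∀ g, Commute (A * A') g := fun g => (h1 g).mul_left (h2 g)
  have e1 : A * Y * (A' * Y') = A * A' * (Y * Y') := by
    rw [_root_.mul_assoc, ← _root_.mul_assoc Y, ← (h2 Y).eq, _root_.mul_assoc, ← _root_.mul_assoc]
  have e2 : A' * Y' * (A * Y) = A * A' * (Y' * Y) := by
    rw [_root_.mul_assoc, ← _root_.mul_assoc Y', ← (h1 Y').eq, _root_.mul_assoc, ← _root_.mul_assoc, (h1 A').eq]
  calc Y * Y' * Y⁻¹ * Y'⁻¹ = (Y * Y') * (Y' * Y)⁻¹ := by group
    _ = (A * A') * ((Y * Y') * (Y' * Y)⁻¹) * (A * A')⁻¹ := by rw [(hC _).eq, mul_inv_cancel_right]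
    _ = A * Y * (A' * Y') * (A' * Y' * (A * Y))⁻¹ := by rw [e1, e2]; group
    _ = _ := by group

/-- The product of the central part with a solvable connected subgroup. -/
theorem exists_prod [Smooth G.hom] [QuasiCompact G.hom] (P : Parts G) {H : Over (Spec (CommRingCat.of k))} [GrpObj H]
    (h : H ⟶ G) [IsMonHom h] [Smooth H.hom] [QuasiCompact H.hom] [ConnectedSpace H.left] (hs : Red.IsSolvableGrp H) :
    ∃ (M : Over (Spec (CommRingCat.of k))) (_ : GrpObj M) (m : M ⟶ G) (_ : IsMonHom m),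
      IsClosedImmersion m.left ∧ Smooth M.hom ∧ QuasiCompact M.hom ∧ ConnectedSpace M.left ∧ Red.IsSolvableGrp M ∧
      (∃ f : H ⟶ M, f ≫ m = h) ∧ (∃ f : P.Z ⟶ M, f ≫ m = P.z) ∧
      ∀ w : PT ⟶ M, ∃ (x : PT ⟶ P.Z) (y : PT ⟶ H), w ≫ m = (x ≫ P.z) * (y ≫ h) := by
  haveI := AntiAffine.isSeparated_grp G
  let Φ : P.Z ⊗ H ⟶ G := (fst P.Z H ≫ P.z) * (snd P.Z H ≫ h)
  have hpt : ∀ {X : Over (Spec (CommRingCat.of k))} (a : X ⟶ P.Z ⊗ H),
      a ≫ Φ = ((a ≫ fst P.Z H) ≫ P.z) * ((a ≫ snd P.Z H) ≫ h) := fun a => by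
    simp only [Φ, MonObj.comp_mul, Category.assoc]
  haveI : IsMonHom Φ := AGFLib.isMonHom_of_mul Φ fun X a b => by
    rw [hpt, hpt, hpt, MonObj.mul_comp, MonObj.mul_comp, MonObj.mul_comp, MonObj.mul_comp, _root_.mul_assoc,
      _root_.mul_assoc, ← _root_.mul_assoc ((a ≫ snd P.Z H) ≫ h), ← _root_.mul_assoc ((b ≫ fst P.Z H) ≫ P.z),
      P.central (b ≫ fst P.Z H) ((a ≫ snd P.Z H) ≫ h)]
  haveI : Smooth (P.Z ⊗ H).hom := inferInstanceAs (Smooth (pullback.fst P.Z.hom H.hom ≫ P.Z.hom))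
  haveI : QuasiCompact (P.Z ⊗ H).hom := inferInstanceAs (QuasiCompact (pullback.fst P.Z.hom H.hom ≫ P.Z.hom))
  haveI := connectedSpace_tensor (A := P.Z) (B := H)
  obtain ⟨M, _, p, m, hp, hm, hpm, hmc, hpf, hps, hMl, hMq⟩ := ImageFactor.exists_image Φ
  haveI := hp; haveI := hm; haveI := hmc; haveI := hps; haveI := hMl; haveI := hMq; haveI := hpf
  haveI : Mono m := mono_of_closedImmersion m
  haveI : Smooth M.hom := smooth_of_quotient p
  haveI : ConnectedSpace M.left := p.left.surjective.connectedSpace p.left.continuous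
  haveI := AntiAffine.isSeparated_grp M
  have hMpts : ∀ w : PT ⟶ M, ∃ (x : PT ⟶ P.Z) (y : PT ⟶ H), w ≫ m = (x ≫ P.z) * (y ≫ h) := fun w => by
    obtain ⟨a, ha⟩ := exists_of_mem_range p w (p.left.surjective (cp w))
    exact ⟨a ≫ fst P.Z H, a ≫ snd P.Z H, by rw [← hpt, ← hpm, ← Category.assoc, ha]⟩
  refine ⟨M, inferInstance, m, hm, hmc, inferInstance, inferInstance, inferInstance, ?_, ⟨lift 1 (𝟙 H) ≫ p, ?_⟩,
    ⟨lift (𝟙 P.Z) 1 ≫ p, ?_⟩, hMpts⟩
  · obtain ⟨n, hn⟩ := hs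
    refine AGFLib.ProperSpace.isSolvableGrp_of_pts (n + 1) (eq_bot_iff.mpr ?_)
    let mh : (PT ⟶ M) →* (PT ⟶ G) :=
      { toFun := fun x => x ≫ m, map_one' := MonObj.one_comp m, map_mul' := fun a b => MonObj.mul_comp a b m }
    let hh : (PT ⟶ H) →* (PT ⟶ G) :=
      { toFun := fun x => x ≫ h, map_one' := MonObj.one_comp h, map_mul' := fun a b => MonObj.mul_comp a b h }
    have key : ∀ i, (derivedSeries (PT ⟶ M) (i + 1)).map mh ≤ (derivedSeries (PT ⟶ H) (i + 1)).map hh := by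
      intro i
      induction i with
      | zero =>
        rw [derivedSeries_succ, derivedSeries_zero, Subgroup.map_le_iff_le_comap, Subgroup.commutator_le]
        intro w _ w' _
        obtain ⟨x, y, hw⟩ := hMpts w
        obtain ⟨x', y', hw'⟩ := hMpts w'
        refine Subgroup.mem_comap.mpr ⟨⁅y, y'⁆, ?_, ?_⟩
        · exact (derivedSeries_succ (PT ⟶ H) 0) ▸
            Subgroup.commutator_mem_commutator (Subgroup.mem_top _) (Subgroup.mem_top _)
        · rw [map_commutatorElement, map_commutatorElement]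
          show ⁅y ≫ h, y' ≫ h⁆ = ⁅w ≫ m, w' ≫ m⁆
          have h1 : ∀ g, Commute (x ≫ P.z) g := fun g => P.central x g
          have h2 : ∀ g, Commute (x' ≫ P.z) g := fun g => P.central x' g
          rw [hw, hw', commutatorElement_def, commutatorElement_def]
          exact commutator_central (fun g => P.central x g) (fun g => P.central x' g) _ _
      | succ i ih =>
        rw [derivedSeries_succ, derivedSeries_succ (PT ⟶ H), Subgroup.map_commutator, Subgroup.map_commutator]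
        exact Subgroup.commutator_mono ih ih
    intro w hw
    have h1 := key n ⟨w, hw, rfl⟩
    rw [show derivedSeries (PT ⟶ H) (n + 1) = ⊥ from le_bot_iff.mp ((hn PT) ▸ derivedSeries_antitone (PT ⟶ H) n.le_succ),
      Subgroup.map_bot, Subgroup.mem_bot] at h1
    exact Subgroup.mem_bot.mpr ((cancel_mono m).mp (h1.trans (MonObj.one_comp m).symm))
  · rw [Category.assoc, hpm, hpt, lift_fst, lift_snd, MonObj.one_comp, _root_.one_mul, Category.id_comp]
  · rw [Category.assoc, hpm, hpt, lift_fst, lift_snd, MonObj.one_comp, _root_.mul_one, Category.id_comp]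

/-- A Borel subgroup contains the central part. -/
theorem exists_centre_factor [Smooth G.hom] [QuasiCompact G.hom] (P : Parts G) {B : Over (Spec (CommRingCat.of k))}
    [GrpObj B] {b : B ⟶ G} (hB : Red.IsBorelOver k b) : ∃ f : P.Z ⟶ B, f ≫ b = P.z := by
  haveI := hB.1; haveI := hB.2.1; haveI := hB.2.2.1; haveI := hB.2.2.2.1
  haveI : QuasiCompact B.hom := by rw [← Over.w b]; infer_instance
  obtain ⟨M, _, m, hm, hmc, hMs, hMq, hMc, hsol, ⟨f, hf⟩, ⟨f', hf'⟩, -⟩ := exists_prod P b hB.2.2.2.2.1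
  haveI := hm
  haveI := hB.2.2.2.2.2 M m f hmc hMs hMc hsol hf
  exact ⟨f' ≫ inv f, by rw [← hf', ← hf, Category.assoc, IsIso.inv_hom_id_assoc]⟩

/-- A connected subgroup containing the central part is generated by it and its part in the affine part. -/
theorem exists_affine_part [Smooth G.hom] [QuasiCompact G.hom] (P : Parts G) {H : Over (Spec (CommRingCat.of k))}
    [GrpObj H] (h : H ⟶ G) [IsMonHom h] [IsClosedImmersion h.left] [Smooth H.hom] [QuasiCompact H.hom]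
    [ConnectedSpace H.left] (zH : P.Z ⟶ H) (hzH : zH ≫ h = P.z) (hs : Red.IsSolvableGrp H) :
    ∃ (D : Over (Spec (CommRingCat.of k))) (_ : GrpObj D) (d : D ⟶ P.N) (_ : IsMonHom d),
      IsClosedImmersion d.left ∧ Smooth D.hom ∧ ConnectedSpace D.left ∧ Red.IsSolvableGrp D ∧
      (∃ f : D ⟶ H, f ≫ h = d ≫ P.i) ∧
      (∀ (U : Over (Spec (CommRingCat.of k))) [GrpObj U] (u : U ⟶ P.N) [IsMonHom u] [Smooth U.hom] [QuasiCompact U.hom]
        [ConnectedSpace U.left] (v : U ⟶ H), v ≫ h = u ≫ P.i → ∃ (u₀ : U ⟶ D) (_ : IsMonHom u₀), u₀ ≫ d = u) ∧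
      ∀ w : PT ⟶ H, ∃ (x : PT ⟶ P.Z) (y : PT ⟶ D), w ≫ h = (x ≫ P.z) * (y ≫ d ≫ P.i) := by
  haveI := AntiAffine.isSeparated_grp G
  haveI : Mono h := mono_of_closedImmersion h
  haveI : Mono P.i := mono_of_closedImmersion P.i
  let Γ : Subgroup (PT ⟶ P.N) := (rangePts h).comap
    { toFun := fun n => n ≫ P.i, map_one' := MonObj.one_comp _, map_mul' := fun a b => MonObj.mul_comp a b _ }
  obtain ⟨Q, _, q, hq, hqc, hQs, hQa, hQΓ⟩ := exists_sub Γ ((ptsClosed_range h).preimage P.i)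
  haveI := hq; haveI := hqc; haveI := hQs
  haveI : QuasiCompact Q.hom := by rw [← Over.w q]; infer_instance
  obtain ⟨D, _, r, hr, hrc, hDs, hDc, hDq, ⟨R, hR, hRcov⟩, huniv⟩ := exists_idSub Q
  haveI := hrc; haveI := hDs; haveI := hDc; haveI := hDq
  haveI : IsClosedImmersion (r ≫ q).left := inferInstanceAs (IsClosedImmersion (r.left ≫ q.left))
  haveI : IsReduced D.left := isReduced_of_smooth_field D.hom
  haveI : Mono q := mono_of_closedImmersion q
  obtain ⟨f, hf⟩ := exists_lift_pts h ((r ≫ q) ≫ P.i) fun t => by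
    have : (t ≫ r) ≫ q ∈ Γ := hQΓ ▸ ⟨t ≫ r, rfl⟩
    obtain ⟨y, hy⟩ := this
    exact ⟨y, by simpa only [Category.assoc, MonoidHom.coe_mk, OneHom.coe_mk] using hy⟩
  haveI : Mono ((r ≫ q) ≫ P.i) := by
    haveI : Mono (r ≫ q) := mono_of_closedImmersion (r ≫ q)
    exact mono_comp _ _
  haveI : Mono (f ≫ h) := hf.symm ▸ ‹Mono ((r ≫ q) ≫ P.i)›
  haveI : Mono f := mono_of_mono f h
  haveI : IsMonHom f := AGFLib.isMonHom_of_mul f fun X a b => by
    rw [← cancel_mono h]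
    simp only [Category.assoc, hf, MonObj.mul_comp]
  refine ⟨D, inferInstance, r ≫ q, inferInstance, inferInstance, inferInstance, inferInstance,
    isSolvableGrp_of_mono f hs, ⟨f, hf⟩, fun U _ u _ _ _ _ v hv => ?_, ?_⟩
  · haveI : IsReduced U.left := isReduced_of_smooth_field U.hom
    haveI : LocallyOfFiniteType Q.hom := inferInstance
    obtain ⟨u₁, hu₁⟩ := exists_lift_pts q u fun t => by
      have : t ≫ u ∈ Γ := ⟨t ≫ v, show (t ≫ v) ≫ h = (t ≫ u) ≫ P.i by rw [Category.assoc, hv, Category.assoc]⟩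
      rw [← hQΓ] at this
      exact this
    haveI : IsMonHom u₁ := AGFLib.isMonHom_of_mul u₁ fun X a b => by
      rw [← cancel_mono q, Category.assoc, hu₁, MonObj.mul_comp, MonObj.mul_comp, Category.assoc, Category.assoc, hu₁]
    obtain ⟨u₀, hu₀, hu₀r⟩ := huniv U u₁
    exact ⟨u₀, hu₀, by rw [reassoc_of% hu₀r, hu₁]⟩
  · let Φ : P.Z ⊗ D ⟶ H := (fst P.Z D ≫ zH) * (snd P.Z D ≫ f)
    have hΦ : ∀ (x : PT ⟶ P.Z) (y : PT ⟶ D), (lift x y ≫ Φ) ≫ h = (x ≫ P.z) * (y ≫ (r ≫ q) ≫ P.i) := fun x y => by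
      simp only [Φ, MonObj.comp_mul, lift_fst_assoc, lift_snd_assoc, MonObj.mul_comp, Category.assoc, hzH]
      simp only [hf, Category.assoc]
    let Δ : Subgroup (PT ⟶ H) :=
      { carrier := {w | ∃ (x : PT ⟶ P.Z) (y : PT ⟶ D), w ≫ h = (x ≫ P.z) * (y ≫ (r ≫ q) ≫ P.i)}
        one_mem' := ⟨1, 1, by simp⟩
        mul_mem' := by
          rintro a b ⟨x, y, ha⟩ ⟨x', y', hb⟩
          refine ⟨x * x', y * y', ?_⟩
          rw [MonObj.mul_comp, ha, hb, MonObj.mul_comp, MonObj.mul_comp, _root_.mul_assoc, _root_.mul_assoc,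
            ← _root_.mul_assoc (y ≫ _), ← P.central x', _root_.mul_assoc]
        inv_mem' := by
          rintro a ⟨x, y, ha⟩
          refine ⟨x⁻¹, y⁻¹, ?_⟩
          rw [GrpObj.inv_comp, ha, _root_.mul_inv_rev, GrpObj.inv_comp, GrpObj.inv_comp]
          exact ((show Commute (x ≫ P.z) (y ≫ (r ≫ q) ≫ P.i) from P.central x _).inv_inv).eq.symm }
    haveI : LocallyOfFiniteType (P.Z ⊗ D).hom :=
      inferInstanceAs (LocallyOfFiniteType (pullback.fst P.Z.hom D.hom ≫ P.Z.hom))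
    haveI : QuasiCompact (P.Z ⊗ D).hom := inferInstanceAs (QuasiCompact (pullback.fst P.Z.hom D.hom ≫ P.Z.hom))
    have hrange : ∀ w : PT ⟶ H, w ∈ Δ ↔ ∃ a : PT ⟶ P.Z ⊗ D, a ≫ Φ = w := by
      intro w
      constructor
      · rintro ⟨x, y, hw⟩
        exact ⟨lift x y, (cancel_mono h).mp (by rw [hΦ, hw])⟩
      · rintro ⟨a, rfl⟩
        refine ⟨a ≫ fst P.Z D, a ≫ snd P.Z D, ?_⟩
        rw [← hΦ, ← comp_lift, lift_fst_snd, Category.comp_id]
    haveI : IsSeparated H.hom := AntiAffine.isSeparated_grp H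
    haveI : IsMonHom Φ := AGFLib.isMonHom_of_mul Φ fun X a b => by
      rw [← cancel_mono h]
      simp only [Φ, MonObj.comp_mul, MonObj.mul_comp, Category.assoc, hzH, hf]
      rw [_root_.mul_assoc, _root_.mul_assoc, ← _root_.mul_assoc (a ≫ snd _ _ ≫ r ≫ q ≫ P.i),
        ← show (b ≫ fst P.Z D ≫ P.z) * (a ≫ snd P.Z D ≫ r ≫ q ≫ P.i) = (a ≫ snd P.Z D ≫ r ≫ q ≫ P.i) * (b ≫ fst P.Z D ≫ P.z) by
          simpa only [Category.assoc] using P.central (b ≫ fst P.Z D) (a ≫ snd P.Z D ≫ r ≫ q ≫ P.i),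
        _root_.mul_assoc]
    have hΔ : PtsClosed (Δ : Set (PT ⟶ H)) := by
      rw [show (Δ : Set (PT ⟶ H)) = (rangePts Φ : Set (PT ⟶ H)) from Set.ext fun w => hrange w]
      exact ptsClosed_range Φ
    -- finitely many cosets
    classical
    let cand : (PT ⟶ Q) → (PT ⟶ H) := fun s =>
      if e : ∃ w : PT ⟶ H, w ≫ h = (s ≫ q) ≫ P.i then e.choose else 1
    have hcand : ∀ s : PT ⟶ Q, cand s ≫ h = (s ≫ q) ≫ P.i := fun s => by
      have : s ≫ q ∈ Γ := hQΓ ▸ ⟨s, rfl⟩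
      simp only [cand]
      rw [dif_pos (show ∃ w : PT ⟶ H, w ≫ h = (s ≫ q) ≫ P.i from this)]
      exact (show ∃ w : PT ⟶ H, w ≫ h = (s ≫ q) ≫ P.i from this).choose_spec
    have htop : Δ = ⊤ := eq_top_of_finite Δ hΔ (cand '' R) (hR.image _) fun w => by
      obtain ⟨x, n, hxn⟩ := P.decomp (w ≫ h)
      have hn : n ∈ Γ := ⟨(x ≫ zH)⁻¹ * w, by
        show ((x ≫ zH)⁻¹ * w) ≫ h = n ≫ P.i
        rw [MonObj.mul_comp, GrpObj.inv_comp, Category.assoc, hzH, ← hxn, inv_mul_cancel_left]⟩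
      rw [← hQΓ] at hn
      obtain ⟨n₁, hn₁⟩ := hn
      obtain ⟨s, hs, t, ht⟩ := hRcov n₁
      refine ⟨cand s, ⟨s, hs, rfl⟩, x, t, ?_⟩
      have ht' : (t ≫ r ≫ q) ≫ P.i = ((s ≫ q) ≫ P.i)⁻¹ * (n ≫ P.i) := by
        rw [← Category.assoc t r q, show t ≫ r = s⁻¹ * n₁ from ht, MonObj.mul_comp, MonObj.mul_comp, GrpObj.inv_comp,
          GrpObj.inv_comp, show n₁ ≫ q = n from hn₁]
      rw [MonObj.mul_comp, GrpObj.inv_comp, hcand, ← hxn, ← Category.assoc t, ht', ← _root_.mul_assoc,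
        ← (show Commute (x ≫ P.z) ((s ≫ q) ≫ P.i) from P.central x _).inv_right.eq, _root_.mul_assoc]
    intro w
    exact (htop ▸ Subgroup.mem_top w : w ∈ Δ)

end Groth.Agent.NonAffine
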