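import Groth.Agent.NonAffine.IdComp
import Groth.Agent.NonAffine.BorelTori
import Groth.Agent.SolvGrp.AffineImage
import Groth.Agent.SolvGrp.CentralIsogeny
import Groth.Agent.SolvGrp.TorusSepClosed
import Groth.Agent.GrpSchLib.ImageFactor
import Groth.Agent.GrpSchLib.QuotAffine
import Mathlib.AlgebraicGeometry.Sites.Fpqc

/-! Images of centralisers of maximal tori. -/

set_option backward.isDefEq.respectTransparency false
set_option backward.isDefEq.respectTransparency.types false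
set_option linter.style.haveILetI false
set_option autoImplicit false

universe u

open CategoryTheory Limits MonoidalCategory CartesianMonoidalCategory MonObj AlgebraicGeometry

namespace Groth.Agent.NonAffine

open GrpSchLib AGFLib AGFLib.Gen AGFLib.BorelExist AGFLib.BorelFixed SolvGrp

/-- Two factorisations as fpqc covering followed by a monomorphism agree. -/
theorem exists_iso_image {S : Scheme.{u}} {A B B' X : Over S} (p : A ⟶ B) [Flat p.left] [Surjective p.left]
    [QuasiCompact p.left] (p' : A ⟶ B') [Flat p'.left] [Surjective p'.left] [QuasiCompact p'.left] (m : B ⟶ X)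
    [Mono m] (m' : B' ⟶ X) [Mono m'] (h : p ≫ m = p' ≫ m') : ∃ φ : B ≅ B', p ≫ φ.hom = p' ∧ φ.hom ≫ m' = m := by
  haveI : EffectiveEpi p.left := inferInstance
  haveI : EffectiveEpi p'.left := inferInstance
  have hl : p.left ≫ m.left = p'.left ≫ m'.left := congrArg CommaMorphism.left h
  have sq : CommSq p'.left p.left m'.left m.left := ⟨hl.symm⟩
  have sq' : CommSq p.left p'.left m.left m'.left := ⟨hl⟩
  let a : B ⟶ B' := Over.homMk sq.lift (by rw [← Over.w m', ← Category.assoc, sq.fac_right, Over.w m])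
  let b : B' ⟶ B := Over.homMk sq'.lift (by rw [← Over.w m, ← Category.assoc, sq'.fac_right, Over.w m'])
  have ha : a ≫ m' = m := Over.OverMorphism.ext sq.fac_right
  have hb : b ≫ m = m' := Over.OverMorphism.ext sq'.fac_right
  refine ⟨⟨a, b, ?_, ?_⟩, Over.OverMorphism.ext sq.fac_left, ha⟩
  · rw [← cancel_mono m, Category.assoc, hb, ha, Category.id_comp]
  · rw [← cancel_mono m', Category.assoc, ha, hb, Category.id_comp]

variable {k : Type u} [Field k] [IsAlgClosed k] {G : Over (Spec (CommRingCat.of k))} [GrpObj G]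

local notation "PT" => 𝟙_ (Over (Spec (CommRingCat.of k)))

/-- The points of the centraliser of a smooth subgroup are the commuting points. -/
theorem mem_rangePts_centralizer [LocallyOfFiniteType G.hom] {T Z : Over (Spec (CommRingCat.of k))} [GrpObj T]
    [GrpObj Z] [Smooth T.hom] (iT : T ⟶ G) [IsMonHom iT] {c : Z ⟶ G} [IsMonHom c]
    (hc : Red.IsCentralizerOf iT c) (g : PT ⟶ G) :
    g ∈ rangePts c ↔ ∀ s : PT ⟶ T, Commute g (s ≫ iT) := by
  haveI := AntiAffine.isSeparated_grp G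
  haveI : IsReduced T.left := isReduced_of_smooth_field T.hom
  constructor
  · rintro ⟨z, rfl⟩ s
    have := (hc.2.2 PT (z ≫ c)).mp ⟨z, rfl⟩ PT (𝟙 _) s
    rwa [Category.id_comp] at this
  · intro h
    have key : (toUnit T ≫ g) * iT = iT * (toUnit T ≫ g) := hom_ext_pts fun y => by
      rw [MonObj.comp_mul, MonObj.comp_mul, ← Category.assoc, toUnit_unique (y ≫ toUnit T) (𝟙 _), Category.id_comp]
      exact h y
    obtain ⟨z, hz⟩ := (hc.2.2 PT g).mpr fun X x t => by
      have h2 := congrArg (t ≫ ·) key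
      simpa only [MonObj.comp_mul, ← Category.assoc, toUnit_unique (t ≫ toUnit T) x] using h2
    exact ⟨z, hz⟩

/-- The normaliser of a maximal torus is finite modulo its centraliser. -/
theorem finite_normalizer [Smooth G.hom] [QuasiCompact G.hom] [ConnectedSpace G.left]
    {T : Over (Spec (CommRingCat.of k))} [GrpObj T] {i : T ⟶ G} (hM : AGF.IsMaxTorus i) :
    ∃ R : Set (PT ⟶ G), R.Finite ∧ ∀ n : PT ⟶ G, (∀ s : PT ⟶ T, ∃ s' : PT ⟶ T, s' ≫ i = n⁻¹ * (s ≫ i) * n) →
      ∃ r ∈ R, ∀ s : PT ⟶ T, Commute (n * r⁻¹) (s ≫ i) := by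
  obtain ⟨P⟩ := exists_parts G
  haveI := hM.1
  haveI : Mono P.i := mono_of_closedImmersion P.i
  haveI : IsReduced P.N.left := isReduced_of_smooth_field P.N.hom
  obtain ⟨f, hf, hfi⟩ := isMaxTorus_factor' P hM
  haveI := hf.1
  obtain ⟨R, hR, hcov⟩ := SolvGrp.finite_normalizer f hf.2.2.1
  refine ⟨(fun r => r ≫ P.i) '' R, hR.image _, fun n hn => ?_⟩
  obtain ⟨z, m, rfl⟩ := P.decomp n
  have hz : ∀ g : PT ⟶ G, Commute (z ≫ P.z) g := fun g => P.central z g
  have hconj : ∀ x : PT ⟶ G, ((z ≫ P.z) * (m ≫ P.i))⁻¹ * x * ((z ≫ P.z) * (m ≫ P.i)) =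
      (m ≫ P.i)⁻¹ * x * (m ≫ P.i) := fun x => by
    rw [mul_inv_rev, _root_.mul_assoc ((m ≫ P.i)⁻¹), ((hz x).inv_left).eq]
    group
  obtain ⟨r, hr, hrs⟩ := hcov m (by
    rintro _ ⟨s, rfl⟩
    obtain ⟨s', hs'⟩ := hn s
    refine ⟨s', ?_⟩
    rw [hconj, ← hfi] at hs'
    show s' ≫ f = m⁻¹ * (s ≫ f) * m
    rw [← cancel_mono P.i]
    simpa only [MonObj.mul_comp, GrpObj.inv_comp, Category.assoc] using hs')
  refine ⟨_, ⟨r, hr, rfl⟩, fun s => ?_⟩
  have h1 : Commute (m * r⁻¹) (s ≫ f) := hrs _ ⟨s, rfl⟩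
  have h2 : Commute ((m * r⁻¹) ≫ P.i) ((s ≫ f) ≫ P.i) := by
    rw [Commute, SemiconjBy, ← MonObj.mul_comp, ← MonObj.mul_comp, h1.eq]
  rw [MonObj.mul_comp, GrpObj.inv_comp, Category.assoc s, hfi] at h2
  rw [_root_.mul_assoc]
  exact (hz _).mul_left h2

variable {H : Over (Spec (CommRingCat.of k))} [GrpObj H]

/-- The image of the centraliser of a maximal torus is the centraliser of its image. -/
theorem image_centralizer [Smooth G.hom] [QuasiCompact G.hom] [ConnectedSpace G.left] [Smooth H.hom]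
    [QuasiCompact H.hom] [ConnectedSpace H.left] (v : G ⟶ H) [IsMonHom v] [Surjective v.left]
    {T : Over (Spec (CommRingCat.of k))} [GrpObj T] {i : T ⟶ G} (hT : AGF.IsMaxTorus i)
    {C : Over (Spec (CommRingCat.of k))} [GrpObj C] {c : C ⟶ G} (hC : Red.IsCentralizerOf i c)
    {M : Over (Spec (CommRingCat.of k))} [GrpObj M] (m : M ⟶ H) [IsMonHom m] [IsClosedImmersion m.left]
    (p : T ⟶ M) [Flat p.left] [Surjective p.left] (hp : p ≫ m = i ≫ v)
    {N : Over (Spec (CommRingCat.of k))} [GrpObj N] (n : N ⟶ H) [IsMonHom n] [IsClosedImmersion n.left]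
    (q : C ⟶ N) [Flat q.left] [Surjective q.left] (hq : q ≫ n = c ≫ v) :
    Red.IsTorus M ∧ Red.IsCentralizerOf m n := by
  haveI := AntiAffine.isSeparated_grp G
  haveI := AntiAffine.isSeparated_grp H
  haveI := hT.1
  haveI := hT.2.1
  haveI := hC.1
  haveI := hC.2.1
  haveI : Mono m := mono_of_closedImmersion m
  haveI : Mono n := mono_of_closedImmersion n
  obtain ⟨haT, hsT, hcT, -⟩ := torus_props hT.2.2.1
  haveI := haT; haveI := hsT; haveI := hcT
  haveI : QuasiCompact T.hom := inferInstance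
  haveI : LocallyOfFiniteType M.hom := by rw [← Over.w m]; infer_instance
  haveI : LocallyOfFiniteType N.hom := by rw [← Over.w n]; infer_instance
  haveI : QuasiCompact M.hom := by rw [← Over.w m]; infer_instance
  haveI : QuasiCompact N.hom := by rw [← Over.w n]; infer_instance
  haveI : Smooth M.hom := smooth_of_quotient p
  haveI : IsReduced M.left := isReduced_of_smooth_field M.hom
  haveI : IsMonHom p := AGFLib.isMonHom_of_mul p fun X a b => by
    rw [← cancel_mono m, Category.assoc, hp, MonObj.mul_comp, MonObj.mul_comp, Category.assoc, Category.assoc, hp]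
  haveI : ConnectedSpace M.left := p.left.surjective.connectedSpace p.left.continuous
  haveI : IsAffine M.left := isAffine_of_surjective p
  have hM : Red.IsTorus M := SolvGrp.isTorus_of_surjective hT.2.2.1 p
  refine ⟨hM, ?_⟩
  obtain ⟨hccl, hCs⟩ := centralizer_closed_smooth i hT.2.2.1 hC
  haveI := hccl; haveI := hCs
  haveI : QuasiCompact C.hom := by rw [← Over.w c]; infer_instance
  haveI : Smooth N.hom := smooth_of_quotient q
  haveI : IsReduced N.left := isReduced_of_smooth_field N.hom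
  obtain ⟨D, _, d, hd, hdcl, hds⟩ := MaxTorCent.exists_centralizer m (TorusQI.isMultTypeFT_of_isTorus hM)
  haveI := hd.1; haveI := hd.2.1; haveI := hdcl; haveI := hds
  haveI : QuasiCompact D.hom := by rw [← Over.w d]; infer_instance
  obtain ⟨-, hDc⟩ := smooth_connected_centralizer m hM hd
  haveI := hDc
  have hlift : ∀ x : PT ⟶ M, ∃ t : PT ⟶ T, t ≫ p = x := fun x => exists_of_mem_range p x (p.left.surjective _)
  haveI := AntiAffine.isSeparated_grp N
  have hND : rangePts n ≤ rangePts d := by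
    rintro _ ⟨y, rfl⟩
    refine (mem_rangePts_centralizer m hd _).mpr fun x => ?_
    obtain ⟨t, rfl⟩ := hlift x
    obtain ⟨z, rfl⟩ := exists_of_mem_range q y (q.left.surjective _)
    show Commute ((z ≫ q) ≫ n) ((t ≫ p) ≫ m)
    rw [Category.assoc, Category.assoc, hp, hq, ← Category.assoc, ← Category.assoc, Commute, SemiconjBy,
      ← MonObj.mul_comp, ← MonObj.mul_comp]
    exact congrArg (· ≫ v) ((mem_rangePts_centralizer i hC _).mp ⟨z, rfl⟩ t).eq
  obtain ⟨a, ha⟩ := exists_lift_pts d n fun t => hND ⟨t, rfl⟩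
  -- the preimage of the torus
  let vh : (PT ⟶ G) →* (PT ⟶ H) :=
    { toFun := fun g => g ≫ v, map_one' := MonObj.one_comp v, map_mul' := fun a b => MonObj.mul_comp a b v }
  let Γ : Subgroup (PT ⟶ G) := (rangePts m).comap vh
  have hΓ : PtsClosed (Γ : Set (PT ⟶ G)) := (ptsClosed_range m).preimage v
  obtain ⟨W, hW, hmem⟩ := hΓ
  obtain ⟨D₁, _, d₁, hd₁, hd₁c, hD₁s, -, hD₁q, hr₁⟩ := exists_subgroup W hW ((hmem _).mp Γ.one_mem)
    (fun g h hg hh => (hmem _).mp (Γ.mul_mem ((hmem g).mpr hg) ((hmem h).mpr hh)))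
    (fun g hg => (hmem _).mp (Γ.inv_mem ((hmem g).mpr hg)))
  haveI := hd₁; haveI := hd₁c; haveI := hD₁s; haveI := hD₁q
  have hD₁ : ∀ g : PT ⟶ G, g ≫ v ∈ rangePts m ↔ g ∈ rangePts d₁ := fun g => by
    constructor
    · intro hg
      exact exists_of_mem_range d₁ g (hr₁.symm ▸ (hmem g).mp hg)
    · rintro ⟨y, rfl⟩
      exact (hmem _).mpr (hr₁ ▸ ⟨cp y, rfl⟩)
  haveI : Mono d₁ := mono_of_closedImmersion d₁
  obtain ⟨E, _, e, he, hec, hEs, hEc, hEq, -, huniv⟩ := exists_idSub D₁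
  haveI := he; haveI := hec; haveI := hEs; haveI := hEc; haveI := hEq
  haveI : Mono e := mono_of_closedImmersion e
  haveI : IsReduced T.left := isReduced_of_smooth_field T.hom
  have fac : ∀ (f : T ⟶ G) [IsMonHom f], (∀ t : PT ⟶ T, (t ≫ f) ≫ v ∈ rangePts m) →
      ∃ (f₀ : T ⟶ E) (_ : IsMonHom f₀), f₀ ≫ e ≫ d₁ = f := fun f _ hf => by
    obtain ⟨f₁, hf₁⟩ := exists_lift_pts d₁ f fun t => (hD₁ _).mp (hf t)
    haveI : IsMonHom f₁ := AGFLib.isMonHom_of_mul f₁ fun X a b => by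
      rw [← cancel_mono d₁, Category.assoc, hf₁, MonObj.mul_comp, MonObj.mul_comp, Category.assoc, Category.assoc, hf₁]
    obtain ⟨f₀, hf₀, hf₀e⟩ := huniv T f₁
    exact ⟨f₀, hf₀, by rw [reassoc_of% hf₀e, hf₁]⟩
  obtain ⟨R, hR, hnorm⟩ := finite_normalizer hT
  have hcos : ∀ y : PT ⟶ D, ∃ s ∈ (fun r => (r ≫ v)⁻¹) '' R, s⁻¹ * (y ≫ d) ∈ rangePts n := fun y => by
    obtain ⟨x, hx⟩ := exists_of_mem_range v ((y ≫ d)⁻¹) (v.left.surjective _)
    have hyc : ∀ t : PT ⟶ M, Commute (x ≫ v) (t ≫ m) := fun t => by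
      rw [hx]; exact ((mem_rangePts_centralizer m hd _).mp ⟨y, rfl⟩ t).inv_left
    haveI : IsMonHom (AGF.conjBy x i) := by rw [AGFLib.Borel.conjBy_eq]; infer_instance
    haveI : Mono (AGF.conjBy x i) := by
      rw [AGFLib.Borel.conjBy_eq]
      haveI : Mono (AGFLib.Borel.conjM x) := mono_of_closedImmersion _
      exact mono_comp i _
    have hpt : ∀ t : PT ⟶ T, t ≫ AGF.conjBy x i = x * (t ≫ i) * x⁻¹ := fun t => by
      simp only [AGF.conjBy, MonObj.comp_mul, GrpObj.comp_inv, ← Category.assoc,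
        toUnit_unique (t ≫ toUnit T) (𝟙 _), Category.id_comp]
    obtain ⟨j, hj, hje⟩ := fac i fun t => ⟨t ≫ p, by
      show (t ≫ p) ≫ m = _; rw [Category.assoc, hp, Category.assoc]⟩
    obtain ⟨j', hj', hje'⟩ := fac (AGF.conjBy x i) fun t => ⟨t ≫ p, by
      show (t ≫ p) ≫ m = _
      rw [hpt, MonObj.mul_comp, MonObj.mul_comp, GrpObj.inv_comp, Category.assoc, hp]
      have := (hyc (t ≫ p)).eq
      rw [Category.assoc, hp] at this
      rw [Category.assoc, this, mul_inv_cancel_right]⟩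
    haveI := hj; haveI := hj'
    haveI : Mono (j ≫ e ≫ d₁) := hje.symm ▸ hT.2.1
    haveI : Mono j := mono_of_mono j (e ≫ d₁)
    haveI : Mono (j' ≫ e ≫ d₁) := hje'.symm ▸ ‹Mono (AGF.conjBy x i)›
    haveI : Mono j' := mono_of_mono j' (e ≫ d₁)
    have hT' : AGF.IsMaxTorus (AGF.conjBy x i) := isMaxTorus_of_conj hT.2.2.1 hT x⁻¹ (Iso.refl T) (by
      rw [Iso.refl_hom, Category.id_comp, AGFLib.Borel.conjBy_eq, AGFLib.Borel.conjBy_eq, Category.assoc,
        AGFLib.Borel.conjM_comp, inv_mul_cancel, AGFLib.Borel.conjM_one, Category.comp_id])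
    obtain ⟨g, φ, hφ⟩ := maxTori_conj (isMaxTorus_of_comp (e ≫ d₁) (hje.symm ▸ hT))
      (isMaxTorus_of_comp (e ≫ d₁) (hje'.symm ▸ hT'))
    let g' : PT ⟶ G := g ≫ e ≫ d₁
    have hg' : ∀ s : PT ⟶ T, g' * (s ≫ i) * g'⁻¹ = x * ((s ≫ φ.hom) ≫ i) * x⁻¹ := fun s => by
      have h := congrArg (fun f => s ≫ f) hφ
      simp only [MonObj.comp_mul, GrpObj.comp_inv, ← Category.assoc, toUnit_unique (s ≫ toUnit T) (𝟙 _),
        Category.id_comp] at h
      have h2 := congrArg (fun f => f ≫ e ≫ d₁) h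
      simp only [MonObj.mul_comp, GrpObj.inv_comp] at h2
      rw [Category.assoc s j, hje, Category.assoc (s ≫ φ.hom) j', hje', hpt] at h2
      exact h2
    obtain ⟨r, hr, hrs⟩ := hnorm (g'⁻¹ * x) fun s => by
      refine ⟨s ≫ φ.hom, ?_⟩
      have h := hg' s
      calc (s ≫ φ.hom) ≫ i = x⁻¹ * (x * ((s ≫ φ.hom) ≫ i) * x⁻¹) * x := by group
        _ = x⁻¹ * (g' * (s ≫ i) * g'⁻¹) * x := by rw [h]
        _ = _ := by group
    obtain ⟨z, hz⟩ := (mem_rangePts_centralizer i hC _).mpr hrs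
    have hg : g' ≫ v ∈ rangePts n := by
      obtain ⟨w, hw⟩ := (hD₁ g').mpr ⟨g ≫ e, Category.assoc _ _ _⟩
      obtain ⟨t, rfl⟩ := hlift w
      obtain ⟨t', ht'⟩ := (mem_rangePts_centralizer i hC (t ≫ i)).mpr fun s => by
        rw [Commute, SemiconjBy, ← MonObj.mul_comp, ← MonObj.mul_comp, (torus_commute hT.2.2.1 t s).eq]
      refine ⟨t' ≫ q, ?_⟩
      show (t' ≫ q) ≫ n = _
      rw [← show (t ≫ p) ≫ m = g' ≫ v from hw, Category.assoc, hq, ← Category.assoc,
        show t' ≫ c = t ≫ i from ht', Category.assoc, Category.assoc, hp]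
    refine ⟨_, ⟨r, hr, rfl⟩, ?_⟩
    have hz' : ((g'⁻¹ * x * r⁻¹) ≫ v) ∈ rangePts n := ⟨z ≫ q, by
      show (z ≫ q) ≫ n = _
      rw [Category.assoc, hq, ← Category.assoc, show z ≫ c = g'⁻¹ * x * r⁻¹ from hz]⟩
    have := inv_mem (mul_mem hg hz')
    rw [MonObj.mul_comp, MonObj.mul_comp, GrpObj.inv_comp, GrpObj.inv_comp, hx] at this
    convert this using 1
    group
  haveI : IsReduced D.left := isReduced_of_smooth_field D.hom
  obtain ⟨b, -, hb⟩ := exists_factor_of_cosets d n _ (hR.image fun r => (r ≫ v)⁻¹) hcos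
  refine ⟨inferInstance, inferInstance, fun X g => ⟨?_, fun h => ?_⟩⟩
  · rintro ⟨y, rfl⟩
    exact (hd.2.2 X _).mp ⟨y ≫ a, by rw [Category.assoc, ha]⟩
  · obtain ⟨y, hy⟩ := (hd.2.2 X g).mpr h
    exact ⟨y ≫ b, by rw [Category.assoc, hb, hy]⟩

/-- The image of the centraliser of a maximal torus is the centraliser of its image, for subgroup schemes. -/
theorem image_centralizer' [Smooth G.hom] [QuasiCompact G.hom] [ConnectedSpace G.left] [Smooth H.hom]
    [QuasiCompact H.hom] [ConnectedSpace H.left] (v : G ⟶ H) [IsMonHom v] [Surjective v.left]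
    {T : Over (Spec (CommRingCat.of k))} [GrpObj T] {i : T ⟶ G} (hT : AGF.IsMaxTorus i)
    {C : Over (Spec (CommRingCat.of k))} [GrpObj C] {c : C ⟶ G} (hC : Red.IsCentralizerOf i c)
    {T' : Over (Spec (CommRingCat.of k))} (t' : T' ⟶ H) [Mono t']
    (wT : T ⟶ T') [Flat wT.left] [Surjective wT.left] (hwT : wT ≫ t' = i ≫ v)
    {C' : Over (Spec (CommRingCat.of k))} [GrpObj C'] (c' : C' ⟶ H) [IsMonHom c'] [Mono c']
    (wC : C ⟶ C') [Flat wC.left] [Surjective wC.left] (hwC : wC ≫ c' = c ≫ v) :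
    Red.IsCentralizerOf t' c' := by
  haveI := AntiAffine.isSeparated_grp G
  haveI := AntiAffine.isSeparated_grp H
  haveI := hT.1
  haveI := hC.1
  haveI := hT.2.1
  obtain ⟨haT, hsT, -, -⟩ := torus_props hT.2.2.1
  haveI := haT; haveI := hsT
  obtain ⟨hccl, hCs⟩ := centralizer_closed_smooth i hT.2.2.1 hC
  haveI := hccl; haveI := hCs
  haveI : QuasiCompact C.hom := by rw [← Over.w c]; infer_instance
  haveI : QuasiCompact T.hom := inferInstance
  obtain ⟨M, _, p, m, _, hm, hpm, hmc, hpf, hps, -, -⟩ := ImageFactor.exists_image (i ≫ v)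
  obtain ⟨N, _, q, n, _, hn, hqn, hnc, hqf, hqs, -, -⟩ := ImageFactor.exists_image (c ≫ v)
  haveI := hm; haveI := hmc; haveI := hpf; haveI := hps
  haveI := hn; haveI := hnc; haveI := hqf; haveI := hqs
  haveI : Mono m := mono_of_closedImmersion m
  haveI : Mono n := mono_of_closedImmersion n
  have qc : ∀ {A B : Over (Spec (CommRingCat.of k))} [QuasiCompact A.hom] (w : A ⟶ B) (j : B ⟶ H) [Mono j],
      QuasiCompact w.left := fun {A B} _ w j _ => by
    haveI : IsSeparated B.hom := by rw [← Over.w j]; infer_instance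
    haveI : QuasiCompact (w.left ≫ B.hom) := by rw [Over.w w]; infer_instance
    exact QuasiCompact.of_comp w.left B.hom
  haveI := qc p m; haveI := qc q n; haveI := qc wT t'; haveI := qc wC c'
  obtain ⟨-, hcen⟩ := image_centralizer v hT hC m p hpm n q hqn
  obtain ⟨φ, -, hφ⟩ := exists_iso_image wT p t' m (hwT.trans hpm.symm)
  obtain ⟨ψ, -, hψ⟩ := exists_iso_image wC q c' n (hwC.trans hqn.symm)
  refine ⟨inferInstance, inferInstance, fun X g => ⟨?_, fun h => ?_⟩⟩
  · rintro ⟨y, rfl⟩ X' x s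
    have := (hcen.2.2 X (y ≫ c')).mp ⟨y ≫ ψ.hom, by rw [Category.assoc, hψ]⟩ X' x (s ≫ φ.hom)
    rwa [Category.assoc s, hφ] at this
  · obtain ⟨y, hy⟩ := (hcen.2.2 X g).mpr fun X' x s => by
      have := h X' x (s ≫ φ.inv)
      rwa [Category.assoc s, show φ.inv ≫ t' = m from φ.inv_comp_eq.mpr hφ.symm] at this
    exact ⟨y ≫ ψ.inv, by rw [Category.assoc, show ψ.inv ≫ c' = n from ψ.inv_comp_eq.mpr hψ.symm, hy]⟩

end Groth.Agent.NonAffine
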