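import Groth.Agent.NonAffine.Basic
import Groth.Agent.S3901

/-! Tori of a smooth connected group lie in its affine part. -/

set_option backward.isDefEq.respectTransparency false
set_option backward.isDefEq.respectTransparency.types false
set_option linter.style.haveILetI false
set_option autoImplicit false

universe u

open CategoryTheory Limits MonoidalCategory CartesianMonoidalCategory MonObj AlgebraicGeometry

namespace Groth.Agent.NonAffine

variable {k : Type u} [Field k] [IsAlgClosed k] {G : Over (Spec (CommRingCat.of k))} [GrpObj G]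

/-- A torus of `G` lies in the affine part. -/
theorem exists_torus_factor (P : Parts G) {T : Over (Spec (CommRingCat.of k))} [GrpObj T] (j : T ⟶ G) [IsMonHom j]
    (hT : Red.IsTorus T) : ∃ (f : T ⟶ P.N) (_ : IsMonHom f), f ≫ P.i = j := by
  obtain ⟨ha, hs, hc, -⟩ := SolvGrp.torus_props hT
  haveI := ha; haveI := hs; haveI := hc
  obtain ⟨f, hf⟩ := P.factor T j
  haveI : Mono P.i := AGFLib.BorelExist.mono_of_closedImmersion P.i
  exact ⟨f, AGFLib.isMonHom_of_mul f fun X a b => by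
    rw [← cancel_mono P.i, Category.assoc, hf, MonObj.mul_comp, MonObj.mul_comp, Category.assoc, Category.assoc, hf], hf⟩

/-- A torus maximal among subtori is one of the affine part. -/
theorem isMaxTorus_factor' (P : Parts G) {T : Over (Spec (CommRingCat.of k))} [GrpObj T] {j : T ⟶ G}
    (hM : AGF.IsMaxTorus j) : ∃ f : T ⟶ P.N, AGF.IsMaxTorus f ∧ f ≫ P.i = j := by
  haveI := hM.1
  haveI := hM.2.1
  haveI : Mono P.i := AGFLib.BorelExist.mono_of_closedImmersion P.i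
  obtain ⟨f, hf, hfj⟩ := exists_torus_factor P j hM.2.2.1
  haveI : Mono (f ≫ P.i) := hfj.symm ▸ ‹Mono j›
  exact ⟨f, ⟨hf, mono_of_mono f P.i, hM.2.2.1, fun T' _ j' _ _ g hT' hg =>
    hM.2.2.2 T' (j' ≫ P.i) g hT' (by rw [← Category.assoc, hg, hfj])⟩, hfj⟩

/-- Tori maximal among subtori are conjugate. -/
theorem maxTori_conj [Smooth G.hom] [QuasiCompact G.hom] [ConnectedSpace G.left]
    {T₁ T₂ : Over (Spec (CommRingCat.of k))} [GrpObj T₁] [GrpObj T₂] {i₁ : T₁ ⟶ G} {i₂ : T₂ ⟶ G}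
    (h₁ : AGF.IsMaxTorus i₁) (h₂ : AGF.IsMaxTorus i₂) :
    ∃ g : 𝟙_ (Over (Spec (CommRingCat.of k))) ⟶ G, SGA3x.ConjBy i₁ i₂ g := by
  obtain ⟨P⟩ := exists_parts G
  obtain ⟨f₁, hf₁, e₁⟩ := isMaxTorus_factor' P h₁
  obtain ⟨f₂, hf₂, e₂⟩ := isMaxTorus_factor' P h₂
  obtain ⟨g, φ, hφ⟩ := Groth.Agent.S3901.result k P.N T₁ T₂ f₁ f₂ hf₁ hf₂
  refine ⟨g ≫ P.i, φ, ?_⟩
  rw [← e₁, ← e₂, ← Category.assoc φ.hom, hφ, MonObj.mul_comp, MonObj.mul_comp, GrpObj.inv_comp, Category.assoc]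

/-- A maximal torus of `G` is one of the affine part. -/
theorem isMaxTorus_factor (P : Parts G) {T : Over (Spec (CommRingCat.of k))} [GrpObj T] {j : T ⟶ G}
    (hT : Red.IsMaximalTorus j) : ∃ f : T ⟶ P.N, AGF.IsMaxTorus f ∧ f ≫ P.i = j := by
  have hM := SolvGrp.isMaxTorus_of_isMaximalTorus hT
  haveI := hM.1
  haveI := hM.2.1
  haveI : Mono P.i := AGFLib.BorelExist.mono_of_closedImmersion P.i
  obtain ⟨f, hf, hfj⟩ := exists_torus_factor P j hM.2.2.1
  haveI : Mono (f ≫ P.i) := hfj.symm ▸ ‹Mono j›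
  exact ⟨f, ⟨hf, mono_of_mono f P.i, hM.2.2.1, fun T' _ j' _ _ g hT' hg =>
    hM.2.2.2 T' (j' ≫ P.i) g hT' (by rw [← Category.assoc, hg, hfj])⟩, hfj⟩

/-- Maximal tori of a smooth connected group are conjugate. -/
theorem maximalTori_conj [Smooth G.hom] [QuasiCompact G.hom] [ConnectedSpace G.left]
    {T₁ T₂ : Over (Spec (CommRingCat.of k))} [GrpObj T₁] [GrpObj T₂] {i₁ : T₁ ⟶ G} {i₂ : T₂ ⟶ G}
    (h₁ : Red.IsMaximalTorus i₁) (h₂ : Red.IsMaximalTorus i₂) :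
    ∃ g : 𝟙_ (Over (Spec (CommRingCat.of k))) ⟶ G, SGA3x.ConjBy i₁ i₂ g := by
  obtain ⟨P⟩ := exists_parts G
  obtain ⟨f₁, hf₁, e₁⟩ := isMaxTorus_factor P h₁
  obtain ⟨f₂, hf₂, e₂⟩ := isMaxTorus_factor P h₂
  obtain ⟨g, φ, hφ⟩ := Groth.Agent.S3901.result k P.N T₁ T₂ f₁ f₂ hf₁ hf₂
  refine ⟨g ≫ P.i, φ, ?_⟩
  rw [← e₁, ← e₂, ← Category.assoc φ.hom, hφ, MonObj.mul_comp, MonObj.mul_comp, GrpObj.inv_comp, Category.assoc]

end Groth.Agent.NonAffine
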